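import Mathlib
import Cfsg.Agent.Lib.Balance.Basic
import Cfsg.Agent.Lib.CharP.Basic
import Cfsg.Agent.Lib.Components.GenFitting
import Cfsg.Agent.Lib.Coprime.Glauberman
import Cfsg.Agent.Lib.OddOrder.FeitThompson

/-!
# Odd elements acting in a group without odd normal subgroups

Owner: helper78. Inputs for the theorem on products of strongly closed 2-subgroups.
-/

set_option autoImplicit false
set_option linter.style.haveILetI false

open Cfsg Subgroup Cfsg.Agent.Lib.Components
open scoped commutatorElement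

namespace Cfsg.Agent.Lib.ProductFusion.Core

universe u

variable {X : Type u} [Group X] [Finite X]

theorem odd_pPrimeCore : Odd (Nat.card ↥(pPrimeCore 2 X)) :=
  Nat.coprime_two_right.1 (Cores.pPrimeCore_coprime 2)

/-- An element of odd order of an abelian normal subgroup is trivial when `O(X) = 1`. -/
theorem eq_one_of_mem_abelian (hO : pPrimeCore 2 X = ⊥) {Z : Subgroup X} (hZn : Z.Normal)
    (hZ : ∀ x ∈ Z, ∀ y ∈ Z, x * y = y * x) {c : X} (hc : c ∈ Z) (hodd : Odd (orderOf c)) :
    c = 1 := by
  let N : Subgroup X :=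
    { carrier := {x | x ∈ Z ∧ Odd (orderOf x)}
      one_mem' := ⟨Z.one_mem, by simp⟩
      mul_mem' := fun {a b} ha hb => ⟨Z.mul_mem ha.1 hb.1,
        (ha.2.mul hb.2).of_dvd_nat (Commute.orderOf_mul_dvd_mul_orderOf (hZ a ha.1 b hb.1))⟩
      inv_mem' := fun {a} ha => ⟨Z.inv_mem ha.1, by rw [orderOf_inv]; exact ha.2⟩ }
  have hN : N.Normal := ⟨fun x hx g => ⟨hZn.conj_mem x hx.1 g, by
    have h := orderOf_injective (MulAut.conj g).toMonoidHom (MulAut.conj g).injective x
    have e : (MulAut.conj g).toMonoidHom x = g * x * g⁻¹ := rfl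
    rw [e] at h
    rw [h]
    exact hx.2⟩⟩
  have hodd' : Odd (Nat.card N) := by
    by_contra hne
    obtain ⟨x, hx⟩ := exists_prime_orderOf_dvd_card' 2
      (even_iff_two_dvd.1 (Nat.not_odd_iff_even.1 hne))
    have hxo : Odd (orderOf (x : X)) := x.2.2
    rw [Subgroup.orderOf_coe, hx] at hxo
    exact absurd hxo (by decide)
  have h : N ≤ ⊥ := hO ▸ Cores.le_pPrimeCore (Nat.coprime_two_right.2 hodd')
  exact Subgroup.mem_bot.1 (h ⟨hc, hodd⟩)

/-- The Fitting subgroup is a 2-group when `O(X) = 1`. -/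
theorem fitting_two (hO : pPrimeCore 2 X = ⊥) : IsPGroup 2 ↥(fittingSubgroup X) := by
  haveI : Fact (Nat.Prime 2) := ⟨Nat.prime_two⟩
  refine (Cores.pCore_isPGroup 2).to_le ?_
  rw [Cores.fittingSubgroup_eq_iSup_pCore]
  refine iSup_le fun t => ?_
  by_cases ht : (t : ℕ) = 2
  · rw [ht]
  · haveI : Fact (t : ℕ).Prime := ⟨t.2⟩
    haveI hn : (pCore (t : ℕ) X).Normal := pCore_normal _ X
    obtain ⟨n, hn2⟩ := IsPGroup.iff_card.1 (Cores.pCore_isPGroup (G := X) (t : ℕ))
    have h1 : pCore (t : ℕ) X ≤ ⊥ := hO ▸ Cores.le_pPrimeCore (by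
      rw [hn2]; exact Nat.Coprime.pow_left _ ((Nat.coprime_primes t.2 Nat.prime_two).2 ht))
    exact h1.trans bot_le

/-- An odd subgroup normalised by `C(b)` centralises the components inside `C(b)`. -/
theorem comm_component {b : X} {R : Subgroup X} (hRodd : Odd (Nat.card R))
    (hRb : R ≤ centralizer ({b} : Set X))
    (hRn : centralizer ({b} : Set X) ≤ normalizer (R : Set X))
    {E : Subgroup X} (hE : IsComponent E) (hEb : E ≤ centralizer ({b} : Set X)) :
    R ≤ centralizer (E : Set X) := by
  have hE' : IsComponent (E.subgroupOf (centralizer ({b} : Set X))) :=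
    Component.subgroupOf hE hEb
  haveI hn : (R.subgroupOf (centralizer ({b} : Set X))).Normal :=
    (Subgroup.normal_subgroupOf_iff_le_normalizer hRb).2 hRn
  haveI : Group.IsSolvable ↥(R.subgroupOf (centralizer ({b} : Set X))) :=
    OddOrder.FeitThompson.isSolvable_of_odd_card
      ((Nat.card_congr (Subgroup.subgroupOfEquivOfLe hRb).toEquiv) ▸ hRodd)
  have h := Component.commutator_eq_bot_of_isSolvable hE' hn.isSubnormal
  exact Subgroup.commutator_eq_bot_iff_le_centralizer.1
    ((commutator_subgroupOf_eq_bot_iff hRb hEb).1 h)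

/-- If `c` lies in an odd subgroup normalised by `C(b)`, `b` an involution, and centralises every
component not centralised by `b`, then `c = 1`. -/
theorem eq_one_of_core (hO : pPrimeCore 2 X = ⊥) {b : X} (hb : b ^ 2 = 1) {R : Subgroup X}
    (hRodd : Odd (Nat.card R)) (hRb : R ≤ centralizer ({b} : Set X))
    (hRn : centralizer ({b} : Set X) ≤ normalizer (R : Set X)) {c : X} (hc : c ∈ R)
    (hmove : ∀ E : Subgroup X, IsComponent E → ¬ E ≤ centralizer ({b} : Set X) →
      c ∈ centralizer (E : Set X)) : c = 1 := by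
  haveI : Fact (Nat.Prime 2) := ⟨Nat.prime_two⟩
  have hodd : Odd (orderOf c) := hRodd.of_dvd_nat (Subgroup.orderOf_dvd_natCard _ hc)
  set F := generalizedFittingSubgroup X with hF
  have hB : IsPGroup 2 ↥(zpowers b) := fun y => ⟨1, by
    obtain ⟨y, n, rfl⟩ := y
    refine Subtype.ext ?_
    show (b ^ n) ^ (2 ^ 1) = 1
    rw [pow_one, ← zpow_natCast, ← zpow_mul, mul_comm, zpow_mul, zpow_natCast, hb, one_zpow]⟩
  have hcb : c * b = b * c := mem_centralizer_singleton_iff.1 (hRb hc)
  have hfit : ∀ u ∈ fittingSubgroup X, Commute c u := by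
    haveI hFn : (fittingSubgroup X).Normal := by
      haveI : (fittingSubgroup X).Characteristic :=
        Subgroup.characteristic_iff_map_eq.mpr fun e => Cores.map_fittingSubgroup_equiv e
      infer_instance
    refine CharP.commute_of_axb hB (Nat.coprime_two_right.2 hodd) ?_ (fitting_two hO)
      (fun _ _ => Subgroup.normalizer_eq_top (H := fittingSubgroup X) ▸ mem_top _)
      (Subgroup.normalizer_eq_top (H := fittingSubgroup X) ▸ mem_top _) ?_
    · rintro _ ⟨n, rfl⟩
      exact (show Commute c b from hcb).zpow_right n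
    · intro u hu hub
      have hub' : u ∈ centralizer ({b} : Set X) :=
        mem_centralizer_singleton_iff.2 (hub b (mem_zpowers b))
      have h1 : c * u * c⁻¹ * u⁻¹ ∈ R ⊓ fittingSubgroup X := by
        refine mem_inf.2 ⟨?_, mul_mem (hFn.conj_mem u hu c) (inv_mem hu)⟩
        rw [show c * u * c⁻¹ * u⁻¹ = c * (u * c⁻¹ * u⁻¹) by group]
        exact mul_mem hc ((mem_normalizer_iff.1 (hRn hub') _).1 (inv_mem hc))
      have hco : (Nat.card R).Coprime (Nat.card ↥(fittingSubgroup X)) := by
        obtain ⟨n, hn⟩ := IsPGroup.iff_card.1 (fitting_two hO)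
        rw [hn]
        exact Nat.Coprime.pow_right _ (Nat.coprime_two_right.2 hRodd)
      rw [disjoint_iff.1 (disjoint_of_coprime_natCard hco), mem_bot, mul_inv_eq_one] at h1
      exact mul_inv_eq_iff_eq_mul.1 h1
  have hlay : layer X ≤ centralizer ({c} : Set X) := by
    refine sSup_le fun E hE => ?_
    have : c ∈ centralizer (E : Set X) := by
      by_cases hEb : E ≤ centralizer ({b} : Set X)
      · exact comm_component hRodd hRb hRn hE hEb hc
      · exact hmove E hE hEb
    exact fun e he => mem_centralizer_singleton_iff.2 (mem_centralizer_iff.1 this e he)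
  have hFc : F ≤ centralizer ({c} : Set X) :=
    sup_le hlay fun u hu => mem_centralizer_singleton_iff.2 (hfit u hu).eq.symm
  have hcC : c ∈ centralizer (F : Set X) :=
    mem_centralizer_iff.2 fun f hf => mem_centralizer_singleton_iff.1 (hFc hf)
  refine eq_one_of_mem_abelian hO (Z := F ⊓ centralizer (F : Set X)) inferInstance
    (fun x hx y hy => mem_centralizer_iff.1 hy.2 x hx.1) ⟨?_, hcC⟩ hodd
  exact GenFitting.centralizer_le hcC

end Cfsg.Agent.Lib.ProductFusion.Core
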