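import Mathlib
import Cfsg.Agent.Lib.ProductFusion.Core
import Cfsg.Agent.Lib.PGroups.Omega
import Cfsg.Agent.Lib.ZStar.StronglyClosed
import Cfsg.Prelude.Def_TwoFusion

/-!
# Commuting strongly closed 2-subgroups: the minimal counterexample

Owner: helper78.
-/

set_option autoImplicit false
set_option linter.style.haveILetI false

open Cfsg Subgroup
open scoped commutatorElement

namespace Cfsg.Agent.Lib.ProductFusion

universe u

/-- `S₁` and `S₂` are strongly closed in `P`, commute and meet trivially. -/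
structure Setup {G : Type u} [Group G] (P : Sylow 2 G) (S₁ S₂ : Subgroup G) : Prop where
  sc₁ : IsStronglyClosed S₁ (P : Subgroup G)
  sc₂ : IsStronglyClosed S₂ (P : Subgroup G)
  comm : ∀ a ∈ S₁, ∀ b ∈ S₂, a * b = b * a
  disj : S₁ ⊓ S₂ = ⊥

/-- The conclusion for the group `G`. -/
def Comm (G : Type u) [Group G] : Prop :=
  ∀ (P : Sylow 2 G) (S₁ S₂ : Subgroup G), Setup P S₁ S₂ →
    ⁅normalClosure (S₁ : Set G), normalClosure (S₂ : Set G)⁆ ≤ pPrimeCore 2 G

/-- An involution conjugate to an element of `S`. -/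
def TypeInv {G : Type u} [Group G] (S : Subgroup G) (t : G) : Prop :=
  orderOf t = 2 ∧ ∃ g : G, g * t * g⁻¹ ∈ S

/-- A minimal counterexample, reduced. -/
structure Ctx {G : Type u} [Group G] (P : Sylow 2 G) (S₁ S₂ : Subgroup G) : Prop
    extends Setup P S₁ S₂ where
  hO : pPrimeCore 2 G = ⊥
  hind : ∀ (H : Type u) [Group H] [Finite H], Nat.card H < Nat.card G → Comm H
  hno₁ : ∀ X : Subgroup G, X.Normal → X ≤ S₁ → X = ⊥
  hno₂ : ∀ X : Subgroup G, X.Normal → X ≤ S₂ → X = ⊥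
  hne₁ : S₁ ≠ ⊥
  hne₂ : S₂ ≠ ⊥

variable {G : Type u} [Group G]

theorem Setup.symm {P : Sylow 2 G} {S₁ S₂ : Subgroup G} (h : Setup P S₁ S₂) : Setup P S₂ S₁ :=
  ⟨h.sc₂, h.sc₁, fun a ha b hb => (h.comm b hb a ha).symm, by rw [inf_comm]; exact h.disj⟩

theorem Ctx.symm {P : Sylow 2 G} {S₁ S₂ : Subgroup G} (h : Ctx P S₁ S₂) : Ctx P S₂ S₁ where
  toSetup := h.toSetup.symm
  hO := h.hO
  hind := h.hind
  hno₁ := h.hno₂
  hno₂ := h.hno₁
  hne₁ := h.hne₂
  hne₂ := h.hne₁

theorem conj_conj_inv (g t : G) : g⁻¹ * (g * t * g⁻¹) * g⁻¹⁻¹ = t := by group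

theorem TypeInv.conj {S : Subgroup G} {t : G} (h : TypeInv S t) (g : G) :
    TypeInv S (g * t * g⁻¹) := by
  obtain ⟨h2, a, ha⟩ := h
  refine ⟨?_, a * g⁻¹, ?_⟩
  · rw [show g * t * g⁻¹ = (MulAut.conj g).toMonoidHom t from rfl,
      orderOf_injective _ (MulAut.conj g).injective]
    exact h2
  · rwa [show a * g⁻¹ * (g * t * g⁻¹) * (a * g⁻¹)⁻¹ = a * t * a⁻¹ by group]

theorem TypeInv.conj_iff {S : Subgroup G} {t : G} (g : G) :
    TypeInv S (g * t * g⁻¹) ↔ TypeInv S t :=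
  ⟨fun h => by simpa [mul_assoc] using h.conj g⁻¹, fun h => h.conj g⟩

theorem TypeInv.sq {S : Subgroup G} {t : G} (h : TypeInv S t) : t * t = 1 := by
  have := pow_orderOf_eq_one t
  rwa [h.1, pow_two] at this

theorem TypeInv.inv_eq {S : Subgroup G} {t : G} (h : TypeInv S t) : t⁻¹ = t :=
  inv_eq_of_mul_eq_one_left h.sq

theorem TypeInv.ne_one {S : Subgroup G} {t : G} (h : TypeInv S t) : t ≠ 1 := fun e => by
  have h2 := h.1
  rw [e, orderOf_one] at h2
  exact absurd h2 (by norm_num)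

theorem TypeInv.of_mem {S : Subgroup G} {t : G} (h2 : orderOf t = 2) (ht : t ∈ S) : TypeInv S t :=
  ⟨h2, 1, by simpa using ht⟩

/-- A 2-group is conjugate into a Sylow 2-subgroup. -/
theorem exists_conj_le [Finite G] (P : Sylow 2 G) {R : Subgroup G} (hR : IsPGroup 2 R) :
    ∃ g : G, ∀ r ∈ R, g * r * g⁻¹ ∈ (P : Subgroup G) := by
  haveI : Fact (Nat.Prime 2) := ⟨Nat.prime_two⟩
  obtain ⟨Q, hQ⟩ := hR.exists_le_sylow
  obtain ⟨g, hg⟩ := MulAction.exists_smul_eq G Q P
  exact ⟨g, fun r hr => ZStar.Elements.smul_mem hg (hQ hr)⟩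

theorem isPGroup_zpowers_two {t : G} (h : orderOf t = 2) : IsPGroup 2 ↥(zpowers t) :=
  IsPGroup.of_card (n := 1) (by rw [Nat.card_zpowers, h, pow_one])

/-- The subgroup generated by two commuting involutions is a 2-group. -/
theorem isPGroup_pair [Finite G] {t u : G} (ht : orderOf t = 2) (hu : orderOf u = 2)
    (h : t * u = u * t) : IsPGroup 2 ↥(zpowers t ⊔ zpowers u) := by
  refine (isPGroup_zpowers_two ht).to_sup_of_normal_right' (isPGroup_zpowers_two hu) ?_
  refine zpowers_le.2 (centralizer_le_normalizer _ (mem_centralizer_iff.2 fun y hy => ?_))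
  obtain ⟨n, rfl⟩ := hy
  exact ((show Commute u t from h.symm).zpow_left n).eq

variable [Finite G] {P : Sylow 2 G} {S₁ S₂ : Subgroup G}

namespace Setup

variable (h : Setup P S₁ S₂)
include h

theorem mem_of_type {t : G} (ht : TypeInv S₁ t) (htP : t ∈ (P : Subgroup G)) : t ∈ S₁ := by
  obtain ⟨-, g, hg⟩ := ht
  have := h.sc₁.2 _ hg g⁻¹ (by rwa [conj_conj_inv])
  rwa [conj_conj_inv] at this

theorem not_both {t : G} (h1 : TypeInv S₁ t) (h2 : TypeInv S₂ t) : False := by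
  obtain ⟨g, hg⟩ := h1.2
  have hgP := h.sc₁.1 hg
  have h' := h.symm.mem_of_type (h2.conj g) hgP
  have : g * t * g⁻¹ ∈ S₁ ⊓ S₂ := mem_inf.2 ⟨hg, h'⟩
  rw [h.disj, mem_bot] at this
  exact (h1.conj g).ne_one this

theorem commute_of_two {R : Subgroup G} (hR : IsPGroup 2 R) {t u : G} (ht : TypeInv S₁ t)
    (hu : TypeInv S₂ u) (htR : t ∈ R) (huR : u ∈ R) : t * u = u * t := by
  obtain ⟨g, hg⟩ := exists_conj_le P hR
  have := h.comm _ (h.mem_of_type (ht.conj g) (hg t htR)) _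
    (h.symm.mem_of_type (hu.conj g) (hg u huR))
  exact (MulAut.conj g).injective (by simpa only [map_mul, MulAut.conj_apply] using this)

theorem type_mul {t t' : G} (ht : TypeInv S₁ t) (ht' : TypeInv S₁ t') (hc : t * t' = t' * t)
    (hne : t ≠ t') : TypeInv S₁ (t * t') := by
  obtain ⟨g, hg⟩ := exists_conj_le P (isPGroup_pair ht.1 ht'.1 hc)
  have h1 := h.mem_of_type (ht.conj g) (hg t (mem_sup_left (mem_zpowers t)))
  have h2 := h.mem_of_type (ht'.conj g) (hg t' (mem_sup_right (mem_zpowers t')))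
  refine ⟨orderOf_eq_prime ?_ fun e => hne ?_, g, ?_⟩
  · rw [(show Commute t t' from hc).mul_pow, pow_two, pow_two, ht.sq, ht'.sq, one_mul]
  · rw [← ht'.inv_eq]; exact eq_inv_of_mul_eq_one_left e
  · rw [show g * (t * t') * g⁻¹ = (g * t * g⁻¹) * (g * t' * g⁻¹) by group]
    exact mul_mem h1 h2

end Setup

/-- A central involution lies in every Sylow 2-subgroup. -/
theorem mem_sylow_of_central (P : Sylow 2 G) {z : G} (hz2 : orderOf z = 2) (hz : z ∈ center G) :
    z ∈ (P : Subgroup G) := by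
  obtain ⟨g, hg⟩ := exists_conj_le P (isPGroup_zpowers_two hz2)
  have := hg z (mem_zpowers z)
  rwa [mem_center_iff.1 hz g, mul_inv_cancel_right] at this

theorem normal_zpowers_of_central {z : G} (hz : z ∈ center G) : (zpowers z).Normal :=
  ⟨fun x hx g => by
    rwa [mem_center_iff.1 ((zpowers_le.2 hz) hx) g, mul_inv_cancel_right]⟩

namespace Ctx

variable (h : Ctx P S₁ S₂)
include h

theorem type_noncentral {t : G} (ht : TypeInv S₁ t) : t ∉ center G := by
  intro hc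
  have htS := h.mem_of_type ht (mem_sylow_of_central P ht.1 hc)
  exact ht.ne_one (zpowers_eq_bot.1 (h.hno₁ _ (normal_zpowers_of_central hc) (zpowers_le.2 htS)))

theorem centralizer_ne_top {t : G} (ht : TypeInv S₁ t) : centralizer ({t} : Set G) ≠ ⊤ := by
  intro e
  refine h.type_noncentral ht (mem_center_iff.2 fun g => ?_)
  exact mem_centralizer_singleton_iff.1 (e ▸ mem_top g)

/-- Two involutions of the first type never differ by a central involution. -/
theorem not_type_mul_central {z t : G} (hz2 : orderOf z = 2) (hz : z ∈ center G)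
    (ht : TypeInv S₁ t) (ht' : TypeInv S₁ (z * t)) : False := by
  obtain ⟨g, hg⟩ := ht.2
  have hzP := mem_sylow_of_central P hz2 hz
  have e : g * (z * t) * g⁻¹ = z * (g * t * g⁻¹) := by
    rw [← mul_assoc, mem_center_iff.1 hz g]; group
  have h1 : z * (g * t * g⁻¹) ∈ S₁ :=
    e ▸ h.mem_of_type (ht'.conj g) (e ▸ mul_mem hzP (h.sc₁.1 hg))
  have hzS : z ∈ S₁ := mul_inv_cancel_right z (g * t * g⁻¹) ▸ mul_mem h1 (inv_mem hg)
  exact h.type_noncentral (TypeInv.of_mem hz2 hzS) hz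

/-- An element of `P` all whose conjugates in `P` equal it is central. -/
theorem central_of_isolated {x : G} (hx : ZStar.Elements.IsolatedIn P x) : x ∈ center G := by
  refine mem_center_iff.2 fun g => ?_
  have hm := ZStar.Elements.commutator_mem_oddCore ZStar.StronglyClosed.involutionThm _ G P x rfl hx g
  rw [show Cfsg.oddCore G = pPrimeCore 2 G from rfl, h.hO, mem_bot, mul_inv_eq_one,
    mul_inv_eq_iff_eq_mul] at hm
  exact hm.symm

/-- A product of commuting involutions of the two types is not central. -/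
theorem pair_noncentral {x y : G} (hx : TypeInv S₁ x) (hy : TypeInv S₂ y) (hc : x * y = y * x) :
    x * y ∉ center G := by
  intro hz
  obtain ⟨g, hg⟩ := exists_conj_le P (isPGroup_pair hx.1 hy.1 hc)
  set x' := g * x * g⁻¹ with hx'
  set y' := g * y * g⁻¹ with hy'
  have hx1 : x' ∈ S₁ := h.mem_of_type (hx.conj g) (hg x (mem_sup_left (mem_zpowers x)))
  have hy1 : y' ∈ S₂ := h.symm.mem_of_type (hy.conj g) (hg y (mem_sup_right (mem_zpowers y)))
  have hz' : x' * y' = x * y := by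
    rw [hx', hy', show g * x * g⁻¹ * (g * y * g⁻¹) = g * (x * y) * g⁻¹ by group,
      mem_center_iff.1 hz g, mul_inv_cancel_right]
  refine h.type_noncentral (hx.conj g) (h.central_of_isolated ⟨h.sc₁.1 hx1, fun a ha => ?_⟩)
  rw [← hx'] at ha ⊢
  clear_value x' y'
  have e : (a * x' * a⁻¹) * (a * y' * a⁻¹) = x' * y' := by
    rw [show a * x' * a⁻¹ * (a * y' * a⁻¹) = a * (x' * y') * a⁻¹ by group, hz',
      mem_center_iff.1 hz a, mul_inv_cancel_right]
  have haS : a * x' * a⁻¹ ∈ S₁ := h.sc₁.2 _ hx1 a ha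
  have hay : a * y' * a⁻¹ ∈ (P : Subgroup G) := by
    rw [show a * y' * a⁻¹ = (a * x' * a⁻¹)⁻¹ * (x' * y') by rw [← e, inv_mul_cancel_left]]
    exact mul_mem (inv_mem ha) (mul_mem (h.sc₁.1 hx1) (h.sc₂.1 hy1))
  have haT : a * y' * a⁻¹ ∈ S₂ := h.sc₂.2 _ hy1 a hay
  have hm : x'⁻¹ * (a * x' * a⁻¹) ∈ S₁ ⊓ S₂ := by
    refine mem_inf.2 ⟨mul_mem (inv_mem hx1) haS, ?_⟩
    rw [show x'⁻¹ * (a * x' * a⁻¹) = y' * (a * y' * a⁻¹)⁻¹ by
      rw [inv_mul_eq_iff_eq_mul, ← mul_assoc, ← e, mul_inv_cancel_right]]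
    exact mul_mem hy1 (inv_mem haT)
  rw [h.disj, mem_bot, inv_mul_eq_one] at hm
  exact hm.symm

theorem exists_central : ∃ z : G, orderOf z = 2 ∧ z ∈ S₁ ∧
    ∀ p ∈ (P : Subgroup G), p * z = z * p := by
  haveI : Fact (Nat.Prime 2) := ⟨Nat.prime_two⟩
  haveI hn : (S₁.subgroupOf (P : Subgroup G)).Normal :=
    ⟨fun s hs p => h.sc₁.2 _ hs (p : G) (p * s * p⁻¹).2⟩
  have hne : S₁.subgroupOf (P : Subgroup G) ≠ ⊥ := fun e => h.hne₁ (by
    rw [subgroupOf_eq_bot, disjoint_iff, inf_eq_left.2 h.sc₁.1] at e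
    exact e)
  have h1 := Cfsg.Agent.Lib.PGroups.normal_inf_center_ne_bot P.2 _ hne
  obtain ⟨z, hz⟩ := exists_prime_orderOf_dvd_card' 2 (show 2 ∣ Nat.card
      ↥(S₁.subgroupOf (P : Subgroup G) ⊓ center ↥(P : Subgroup G)) from by
    obtain ⟨n, hn⟩ := IsPGroup.iff_card.1 (P.2.to_subgroup
      (S₁.subgroupOf (P : Subgroup G) ⊓ center ↥(P : Subgroup G)))
    rw [hn]
    refine dvd_pow_self 2 fun e => h1 (Subgroup.card_eq_one.1 (by rw [hn, e, pow_zero])))
  refine ⟨((z : ↥(P : Subgroup G)) : G), by rw [Subgroup.orderOf_coe, Subgroup.orderOf_coe, hz],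
    (mem_inf.1 z.2).1, fun p hp => ?_⟩
  exact congrArg Subtype.val (mem_center_iff.1 (mem_inf.1 z.2).2 ⟨p, hp⟩)

/-- Every involution of `S₁` commutes with another one in `S₁`. -/
theorem exists_other {t : G} (ht2 : orderOf t = 2) (ht : t ∈ S₁) :
    ∃ s ∈ S₁, orderOf s = 2 ∧ s ≠ t ∧ t * s = s * t := by
  obtain ⟨z, hz2, hzS, hzc⟩ := h.exists_central
  by_cases e : z = t
  · by_cases hu : ∃ s ∈ S₁, orderOf s = 2 ∧ s ≠ t
    · obtain ⟨s, hs, hs2, hne⟩ := hu
      exact ⟨s, hs, hs2, hne, e ▸ (hzc s (h.sc₁.1 hs)).symm⟩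
    · push Not at hu
      refine absurd (h.central_of_isolated ⟨h.sc₁.1 ht, fun a ha => ?_⟩)
        (h.type_noncentral (TypeInv.of_mem ht2 ht))
      exact hu _ (h.sc₁.2 _ ht a ha) ((TypeInv.of_mem ht2 ht).conj a).1
  · exact ⟨z, hzS, hz2, e, hzc _ (h.sc₁.1 ht)⟩

/-- In a proper subgroup the involutions of the two types generate normal subgroups commuting
modulo the core. -/
theorem exists_closures {H : Subgroup G} (hH : H ≠ ⊤) :
    ∃ J₁ J₂ : Subgroup ↥H, J₁.Normal ∧ J₂.Normal ∧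
      (∀ t : ↥H, TypeInv S₁ (t : G) → t ∈ J₁) ∧ (∀ t : ↥H, TypeInv S₂ (t : G) → t ∈ J₂) ∧
      ⁅J₁, J₂⁆ ≤ pPrimeCore 2 ↥H := by
  haveI : Fact (Nat.Prime 2) := ⟨Nat.prime_two⟩
  obtain ⟨Q⟩ : Nonempty (Sylow 2 ↥H) := inferInstance
  obtain ⟨g, hg⟩ := exists_conj_le P (Q.2.map H.subtype)
  let f : ↥H →* G := (MulAut.conj g).toMonoidHom.comp H.subtype
  have hQP : (Q : Subgroup ↥H) ≤ (P : Subgroup G).comap f := fun q hq => hg _ ⟨q, hq, rfl⟩
  have hp : IsPGroup 2 ↥((P : Subgroup G).comap f) := by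
    refine P.2.comap_of_injective f ?_
    exact (MulAut.conj g).injective.comp H.subtype_injective
  have hQe : (P : Subgroup G).comap f = (Q : Subgroup ↥H) := Q.3 hp hQP
  have sc : ∀ S : Subgroup G, IsStronglyClosed S (P : Subgroup G) →
      IsStronglyClosed (S.comap f) (Q : Subgroup ↥H) := by
    intro S hS
    refine ⟨fun x hx => hQe ▸ hS.1 hx, fun x hx a ha => ?_⟩
    have e : f (a * x * a⁻¹) = f a * f x * (f a)⁻¹ := by rw [map_mul, map_mul, map_inv]
    rw [mem_comap, e]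
    refine hS.2 _ hx (f a) ?_
    rw [← e]
    exact (hQe ▸ ha : a * x * a⁻¹ ∈ (P : Subgroup G).comap f)
  have hset : Setup Q (S₁.comap f) (S₂.comap f) := by
    refine ⟨sc _ h.sc₁, sc _ h.sc₂, fun a ha b hb => ?_, ?_⟩
    · have hfi : Function.Injective f := (MulAut.conj g).injective.comp H.subtype_injective
      refine hfi ?_
      rw [map_mul, map_mul]
      exact h.comm _ ha _ hb
    · rw [← comap_inf, h.disj]
      rw [MonoidHom.comap_bot, MonoidHom.ker_eq_bot_iff]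
      exact (MulAut.conj g).injective.comp H.subtype_injective
  have hlt : Nat.card ↥H < Nat.card G :=
    lt_of_le_of_ne (Subgroup.card_le_card_group H) fun e => hH (Subgroup.eq_top_of_card_eq H e)
  have key : ∀ {S S' : Subgroup G}, Setup P S S' → ∀ t : ↥H, TypeInv S (t : G) →
      t ∈ normalClosure ((S.comap f : Subgroup ↥H) : Set ↥H) := by
    intro S S' hS t ht
    have h2 : orderOf t = 2 := by rw [← Subgroup.orderOf_coe]; exact ht.1
    obtain ⟨a, ha⟩ := exists_conj_le Q (isPGroup_zpowers_two h2)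
    have hq : a * t * a⁻¹ ∈ (P : Subgroup G).comap f := hQP (ha t (mem_zpowers t))
    have hS' : a * t * a⁻¹ ∈ S.comap f := by
      refine hS.mem_of_type ?_ hq
      show TypeInv S (g * ((a : G) * (t : G) * (a : G)⁻¹) * g⁻¹)
      exact (ht.conj _).conj g
    have := (normalClosure_normal (s := ((S.comap f : Subgroup ↥H) : Set ↥H))).conj_mem _
      (subset_normalClosure hS') a⁻¹
    rwa [conj_conj_inv] at this
  exact ⟨_, _, normalClosure_normal, normalClosure_normal, key h.toSetup, key h.toSetup.symm,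
    h.hind ↥H hlt Q _ _ hset⟩

end Ctx

end Cfsg.Agent.Lib.ProductFusion
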