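import Mathlib
import Cfsg.Agent.Lib.ProductFusion.Basic
import Cfsg.Agent.Lib.Coprime.Glauberman

/-!
# Inside the centraliser of an involution

Owner: helper78. Cores of centralisers meet well in a minimal counterexample.
-/

set_option autoImplicit false
set_option linter.style.haveILetI false
set_option linter.unusedSectionVars false

open Cfsg Subgroup Cfsg.Agent.Lib.Components
open scoped commutatorElement

namespace Cfsg.Agent.Lib.ProductFusion

universe u

variable {G : Type u} [Group G] [Finite G]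

/-- `O(C(a))`. -/
abbrev K (a : G) : Subgroup G := centralizerPPrimeCore 2 a

/-- The projection onto `C(e) / O(C(e))`. -/
abbrev proj (e : G) :
    ↥(centralizer ({e} : Set G)) →*
      ↥(centralizer ({e} : Set G)) ⧸ pPrimeCore 2 ↥(centralizer ({e} : Set G)) :=
  QuotientGroup.mk' _

theorem odd_K (a : G) : Odd (Nat.card (K a)) :=
  Nat.coprime_two_right.1 (Balance.coreIn_coprime (p := 2) (centralizer ({a} : Set G)))

theorem commute_K {a d : G} (hd : d ∈ K a) : d * a = a * d :=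
  mem_centralizer_singleton_iff.1 (Balance.centralizerPPrimeCore_le a hd)

theorem conj_mem_K {a g d : G} (hg : g * a = a * g) (hd : d ∈ K a) : g * d * g⁻¹ ∈ K a :=
  (mem_normalizer_iff.1 (Balance.centralizer_le_normalizer_centralizerPPrimeCore a
    (mem_centralizer_singleton_iff.2 hg)) d).1 hd

theorem commutator_mem_K {a g d : G} (hg : g * a = a * g) (hd : d ∈ K a) : ⁅d, g⁆ ∈ K a := by
  rw [commutatorElement_def, show d * g * d⁻¹ * g⁻¹ = d * (g * d⁻¹ * g⁻¹) by group]
  exact mul_mem hd (conj_mem_K hg (inv_mem hd))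

theorem mem_K_iff {e : G} (x : ↥(centralizer ({e} : Set G))) : (x : G) ∈ K e ↔ proj e x = 1 :=
  (mem_map_iff_mem (centralizer ({e} : Set G)).subtype_injective).trans
    (QuotientGroup.eq_one_iff x).symm

theorem core_quotient {e : G} :
    pPrimeCore 2 (↥(centralizer ({e} : Set G)) ⧸ pPrimeCore 2 ↥(centralizer ({e} : Set G))) = ⊥ :=
  Cores.pPrimeCore_quotient_pPrimeCore 2

/-- The image of `O(C(b)) ∩ C(e)` in `C(e) / O(C(e))`. -/
theorem image_core {e b : G} (hb : b * b = 1) (hbe : b * e = e * b)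
    (R : Subgroup (↥(centralizer ({e} : Set G)) ⧸ pPrimeCore 2 ↥(centralizer ({e} : Set G))))
    (hR : R = ((K b).subgroupOf (centralizer ({e} : Set G))).map (proj e)) :
    Odd (Nat.card R) ∧
      R ≤ centralizer {proj e ⟨b, mem_centralizer_singleton_iff.2 hbe⟩} ∧
      centralizer {proj e ⟨b, mem_centralizer_singleton_iff.2 hbe⟩} ≤ normalizer (R : Set _) := by
  refine ⟨(odd_K b).of_dvd_nat ?_, ?_, ?_⟩
  · rw [hR]
    refine (Subgroup.card_map_dvd _ _).trans ?_
    rw [← Subgroup.inf_subgroupOf_right,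
      Nat.card_congr (Subgroup.subgroupOfEquivOfLe inf_le_right).toEquiv]
    exact card_dvd_of_le inf_le_left
  · rw [hR]
    rintro _ ⟨x, hx, rfl⟩
    rw [mem_centralizer_singleton_iff, ← map_mul, ← map_mul]
    exact congrArg (proj e) (Subtype.ext (commute_K hx))
  · intro c hc
    obtain ⟨k, rfl⟩ := QuotientGroup.mk'_surjective _ c
    have hk : ⁅b, (k : G)⁆ ∈ K e := by
      have h1 : proj e ⁅(⟨b, mem_centralizer_singleton_iff.2 hbe⟩ :
          ↥(centralizer ({e} : Set G))), k⁆ = 1 := by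
        rw [map_commutatorElement, commutatorElement_eq_one_iff_mul_comm]
        exact (mem_centralizer_singleton_iff.1 hc).symm
      exact (mem_K_iff _).2 h1
    have hA : zpowers b ≤ normalizer (K e : Set G) :=
      zpowers_le.2 (Balance.centralizer_le_normalizer_centralizerPPrimeCore e
        (mem_centralizer_singleton_iff.2 hbe))
    have hAp : IsPGroup 2 ↥(zpowers b) := fun y => ⟨1, by
      obtain ⟨y, n, rfl⟩ := y
      refine Subtype.ext ?_
      show (b ^ n) ^ (2 ^ 1) = 1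
      rw [pow_one, ← zpow_natCast, ← zpow_mul, mul_comm, zpow_mul, zpow_natCast, pow_two, hb,
        one_zpow]⟩
    haveI : Fact (Nat.Prime 2) := ⟨Nat.prime_two⟩
    obtain ⟨j, hj⟩ := IsPGroup.iff_card.1 hAp
    obtain ⟨n, hn, hnk⟩ := Coprime.exists_fixed_mul hA
      (by rw [hj]; exact Nat.Coprime.pow_left _ (Nat.coprime_two_left.2 (odd_K e)))
      (Or.inr (OddOrder.FeitThompson.isSolvable_of_odd_card (odd_K e))) (k := (k : G))
      (fun a ha => by
        obtain ⟨i, rfl⟩ := ha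
        have hbz : b ^ (2 : ℤ) = 1 := by rw [zpow_two, hb]
        rcases Int.even_or_odd' i with ⟨i', rfl | rfl⟩
        · simp only [zpow_mul, hbz, one_zpow, one_mul, inv_one, mul_one, mul_inv_cancel]
          exact one_mem _
        · simp only [zpow_add, zpow_mul, hbz, one_zpow, one_mul, zpow_one]
          exact hk)
    let k' : ↥(centralizer ({e} : Set G)) :=
      ⟨n, Balance.centralizerPPrimeCore_le e hn⟩ * k
    have hk' : proj e k' = proj e k := by
      rw [map_mul, (mem_K_iff _).1 (show ((⟨n, Balance.centralizerPPrimeCore_le e hn⟩ :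
        ↥(centralizer ({e} : Set G))) : G) ∈ K e from hn), one_mul]
    have hcomm : (k' : G) * b = b * (k' : G) :=
      (mem_centralizer_iff.1 hnk b (mem_zpowers b)).symm
    rw [hR, ← hk']
    have hn' : k' ∈ normalizer (((K b).subgroupOf (centralizer ({e} : Set G))) : Set _) := by
      refine mem_normalizer_iff.2 fun x => ⟨fun hx => conj_mem_K hcomm hx, fun hx => ?_⟩
      have := conj_mem_K (g := (k' : G)⁻¹) (a := b) (by
        rw [inv_mul_eq_iff_eq_mul, ← mul_assoc, hcomm, mul_inv_cancel_right]) hx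
      show (x : G) ∈ K b
      simpa [mul_assoc] using this
    exact le_normalizer_map (proj e) (mem_map_of_mem _ hn')

namespace Ctx

variable {P : Sylow 2 G} {S₁ S₂ : Subgroup G} (h : Ctx P S₁ S₂)
include h

/-- An element of `O(C(b)) ∩ C(e)` lies in `O(C(e))` if its image centralises every component
inside the subgroup generated by the second type. -/
theorem core_step {e b d : G} (hb : b * b = 1) (hbe : b * e = e * b) (hd : d ∈ K b)
    (hde : d * e = e * d)
    {J : Subgroup ↥(centralizer ({e} : Set G))} (hJn : J.Normal)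
    (hbJ : (⟨b, mem_centralizer_singleton_iff.2 hbe⟩ : ↥(centralizer ({e} : Set G))) ∈ J)
    (hcent : ∀ E, IsComponent E → E ≤ J.map (proj e) →
      proj e ⟨d, mem_centralizer_singleton_iff.2 hde⟩ ∈ centralizer (E : Set _)) : d ∈ K e := by
  obtain ⟨hodd, hRb, hRn⟩ := image_core hb hbe _ rfl
  refine (mem_K_iff (⟨d, mem_centralizer_singleton_iff.2 hde⟩ :
    ↥(centralizer ({e} : Set G)))).2 ?_
  refine Core.eq_one_of_core core_quotient
    (by rw [← map_pow]; refine (congrArg (proj e) (Subtype.ext ?_)).trans (map_one _)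
        show b ^ 2 = 1
        rw [pow_two, hb])
    hodd hRb hRn (mem_map_of_mem _ (mem_subgroupOf.2 hd)) fun E hE hmove => hcent E hE ?_
  rcases Component.le_or_commutator_eq_bot hE
    (hJn.map (proj e) (QuotientGroup.mk'_surjective _)).isSubnormal with h1 | h1
  · exact h1
  · refine absurd ?_ hmove
    intro x hx
    rw [mem_centralizer_singleton_iff]
    exact (mem_centralizer_iff.1 (commutator_eq_bot_iff_le_centralizer.1 h1
      (mem_map_of_mem _ hbJ)) x hx)

/-- `O(C(a)) ∩ O(C(b)) ∩ C(e) ≤ O(C(e))`. -/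
theorem inter {a b e : G} (ha : TypeInv S₁ a) (hb : TypeInv S₂ b)
    (he : centralizer ({e} : Set G) ≠ ⊤) (hae : a * e = e * a) (hbe : b * e = e * b) {d : G}
    (hda : d ∈ K a) (hdb : d ∈ K b) (hde : d * e = e * d) : d ∈ K e := by
  obtain ⟨J₁, J₂, hn₁, hn₂, hm₁, hm₂, hJ⟩ := h.exists_closures he
  refine h.core_step hb.sq hbe hdb hde hn₂ (hm₂ _ hb) fun E hE hEJ => ?_
  obtain ⟨hodd, hRa, hRn⟩ := image_core ha.sq hae _ rfl
  refine Core.comm_component hodd hRa hRn hE (fun x hx => ?_) (mem_map_of_mem _ (mem_subgroupOf.2 hda))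
  obtain ⟨j, hj, rfl⟩ := hEJ hx
  rw [mem_centralizer_singleton_iff]
  refine commutatorElement_eq_one_iff_mul_comm.1 ?_
  rw [← map_commutatorElement]
  refine (QuotientGroup.eq_one_iff _).2 ?_
  rw [← commutatorElement_inv]
  exact inv_mem (hJ (commutator_mem_commutator (hm₁ _ ha) hj))

/-- `[O(C(y)) ∩ C(e), x] ≤ O(C(e))`. -/
theorem comm_mem {x y e : G} (hx : TypeInv S₁ x) (hy : TypeInv S₂ y)
    (he : centralizer ({e} : Set G) ≠ ⊤) (hxe : x * e = e * x) (hye : y * e = e * y)
    (hxy : x * y = y * x) {d : G} (hd : d ∈ K y) (hde : d * e = e * d) : ⁅d, x⁆ ∈ K e := by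
  obtain ⟨J₁, J₂, hn₁, hn₂, hm₁, hm₂, hJ⟩ := h.exists_closures he
  set d' : ↥(centralizer ({e} : Set G)) := ⟨d, mem_centralizer_singleton_iff.2 hde⟩
  set x' : ↥(centralizer ({e} : Set G)) := ⟨x, mem_centralizer_singleton_iff.2 hxe⟩
  have hce : ⁅d, x⁆ * e = e * ⁅d, x⁆ := mem_centralizer_singleton_iff.1 (⁅d', x'⁆).2
  refine h.core_step hy.sq hye (commutator_mem_K hxy hd) hce hn₂ (hm₂ _ hy) fun E hE hEJ => ?_
  refine mem_centralizer_iff.2 fun q hq => ?_
  obtain ⟨j, hj, rfl⟩ := hEJ hq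
  refine (commutatorElement_eq_one_iff_mul_comm.1 ?_).symm
  have hc : (⟨⁅d, x⁆, mem_centralizer_singleton_iff.2 hce⟩ : ↥(centralizer ({e} : Set G))) ∈ J₁ := by
    show ⁅d', x'⁆ ∈ J₁
    rw [commutatorElement_def]
    exact mul_mem (hn₁.conj_mem _ (hm₁ x' hx) d') (inv_mem (hm₁ x' hx))
  rw [← map_commutatorElement]
  exact (QuotientGroup.eq_one_iff _).2 (hJ (commutator_mem_commutator hc hj))

/-- If `z = x y`, then `[O(C(z)) ∩ C(e), x] ≤ O(C(e))`. -/
theorem comm_mem_prod {x y e : G} (hx : TypeInv S₁ x) (hy : TypeInv S₂ y)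
    (he : centralizer ({e} : Set G) ≠ ⊤) (hxe : x * e = e * x) (hye : y * e = e * y)
    (hxy : x * y = y * x) {d : G} (hd : d ∈ K (x * y)) (hde : d * e = e * d) :
    ⁅d, x⁆ ∈ K e := by
  obtain ⟨J₁, J₂, hn₁, hn₂, hm₁, hm₂, hJ⟩ := h.exists_closures he
  set d' : ↥(centralizer ({e} : Set G)) := ⟨d, mem_centralizer_singleton_iff.2 hde⟩
  set x' : ↥(centralizer ({e} : Set G)) := ⟨x, mem_centralizer_singleton_iff.2 hxe⟩
  set y' : ↥(centralizer ({e} : Set G)) := ⟨y, mem_centralizer_singleton_iff.2 hye⟩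
  have heq : ⁅d, x⁆ = ⁅d, y⁆ := by
    have h1 : d * y * d⁻¹ = (d * x * d⁻¹)⁻¹ * (x * y) := by
      rw [eq_inv_mul_iff_mul_eq, show d * x * d⁻¹ * (d * y * d⁻¹) = d * (x * y) * d⁻¹ by group,
        commute_K hd, mul_inv_cancel_right]
    rw [commutatorElement_def, commutatorElement_def, h1,
      show (d * x * d⁻¹)⁻¹ * (x * y) * y⁻¹ = d * x⁻¹ * d⁻¹ * x by group, hx.inv_eq]
  have hc₁ : ⁅d', x'⁆ ∈ J₁ := by
    rw [commutatorElement_def]
    exact mul_mem (hn₁.conj_mem _ (hm₁ x' hx) d') (inv_mem (hm₁ x' hx))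
  have hc₂ : ⁅d', x'⁆ ∈ J₂ := by
    rw [show ⁅d', x'⁆ = ⁅d', y'⁆ from Subtype.ext heq, commutatorElement_def]
    exact mul_mem (hn₂.conj_mem _ (hm₂ y' hy) d') (inv_mem (hm₂ y' hy))
  refine (mem_K_iff ⁅d', x'⁆).2 ?_
  have hM₁ := hn₁.map (proj e) (QuotientGroup.mk'_surjective _)
  have hM₂ := hn₂.map (proj e) (QuotientGroup.mk'_surjective _)
  refine Core.eq_one_of_mem_abelian core_quotient (Z := J₁.map (proj e) ⊓ J₂.map (proj e))
    inferInstance ?_ ⟨mem_map_of_mem _ hc₁, mem_map_of_mem _ hc₂⟩ ?_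
  · intro p hp q hq
    obtain ⟨a, ha, rfl⟩ := hp.1
    obtain ⟨b, hb, rfl⟩ := hq.2
    refine commutatorElement_eq_one_iff_mul_comm.1 ?_
    rw [← map_commutatorElement]
    exact (QuotientGroup.eq_one_iff _).2 (hJ (commutator_mem_commutator ha hb))
  · refine ((odd_K (x * y)).of_dvd_nat ?_).of_dvd_nat (orderOf_map_dvd _ _)
    rw [← Subgroup.orderOf_coe]
    exact Subgroup.orderOf_dvd_natCard _ (commutator_mem_K
      (by rw [mul_assoc, ← hxy]) hd)

end Ctx

end Cfsg.Agent.Lib.ProductFusion
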