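import Mathlib
import Cfsg.Agent.Lib.ProductFusion.Local
import Cfsg.Agent.Lib.Coprime.Commutator
import Cfsg.Agent.Lib.Coprime.Generation
import Cfsg.Agent.Lib.FTDeps.Row1330
import Cfsg.Agent.Lib.Signalizer.Complete

/-!
# The odd subgroup attached to a pair of commuting four-groups

Owner: helper78. `W A₁ A₂` is generated by the `O(C(e)) ∩ O(C(f))`.
-/

set_option autoImplicit false
set_option linter.style.haveILetI false
set_option linter.unusedSectionVars false

open Cfsg Subgroup Cfsg.Agent.Lib.Components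
open scoped commutatorElement

namespace Cfsg.Agent.Lib.ProductFusion

universe u

variable {G : Type u} [Group G]

/-- A four-group all whose involutions are of the type given by `S`. -/
structure IsFour (S A : Subgroup G) : Prop where
  el : IsElementaryAbelian 2 A
  card : Nat.card A = 4
  type : ∀ e ∈ A, e ≠ 1 → TypeInv S e

variable [Finite G]

theorem IsFour.comm {S A : Subgroup G} (hA : IsFour S A) {a b : G} (ha : a ∈ A) (hb : b ∈ A) :
    a * b = b * a :=
  congrArg Subtype.val (hA.el.1.is_comm.comm (⟨a, ha⟩ : A) ⟨b, hb⟩)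

theorem IsFour.isPGroup {S A : Subgroup G} (hA : IsFour S A) : IsPGroup 2 A :=
  IsPGroup.of_card (n := 2) (by rw [hA.card]; norm_num)

theorem IsFour.not_isCyclic {S A : Subgroup G} (hA : IsFour S A) : ¬ IsCyclic A := by
  intro hc
  obtain ⟨g, hg⟩ := hc.exists_ofOrder_eq_natCard
  have h2 : orderOf g ∣ 2 := orderOf_dvd_of_pow_eq_one (Subtype.ext (hA.el.2 g g.2))
  rw [hg, hA.card] at h2
  norm_num at h2

theorem IsFour.map {S A : Subgroup G} (hA : IsFour S A) (g : G) :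
    IsFour S (A.map (MulAut.conj g).toMonoidHom) := by
  refine ⟨⟨⟨⟨?_⟩⟩, ?_⟩, ?_, ?_⟩
  · rintro ⟨_, a, ha, rfl⟩ ⟨_, b, hb, rfl⟩
    exact Subtype.ext (by
      show (MulAut.conj g).toMonoidHom a * (MulAut.conj g).toMonoidHom b = _ * _
      rw [← map_mul, hA.comm ha hb, map_mul])
  · rintro _ ⟨a, ha, rfl⟩
    rw [← map_pow, hA.el.2 a ha, map_one]
  · rw [Subgroup.card_map_of_injective (MulAut.conj g).injective, hA.card]
  · rintro _ ⟨a, ha, rfl⟩ hne
    exact (hA.type a ha fun e => hne (by rw [e, map_one])).conj g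

/-- Two commuting distinct involutions of one type generate a four-group of that type. -/
theorem exists_four {P : Sylow 2 G} {S₁ S₂ : Subgroup G} (h : Setup P S₁ S₂) {t t' : G}
    (ht : TypeInv S₁ t) (ht' : TypeInv S₁ t') (hc : t * t' = t' * t) (hne : t ≠ t') :
    ∃ A : Subgroup G, IsFour S₁ A ∧ t ∈ A ∧ t' ∈ A ∧
      ∀ u : G, u * t = t * u → u * t' = t' * u → ∀ a ∈ A, u * a = a * u := by
  classical
  have hm := h.type_mul ht ht' hc hne
  have h1 : t' * (t * t') = t := by rw [hc, ← mul_assoc, ht'.sq, one_mul]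
  have h2 : t * (t * t') = t' := by rw [← mul_assoc, ht.sq, one_mul]
  have h3 : t * t' * t = t' := by rw [hc, mul_assoc, ht.sq, mul_one]
  have h4 : t * t' * t' = t := by rw [mul_assoc, ht'.sq, mul_one]
  let A : Subgroup G :=
    { carrier := {x | x = 1 ∨ x = t ∨ x = t' ∨ x = t * t'}
      one_mem' := Or.inl rfl
      mul_mem' := by
        rintro a b (rfl | rfl | rfl | rfl) (rfl | rfl | rfl | rfl) <;>
          simp only [Set.mem_setOf_eq, one_mul, mul_one, ht.sq, ht'.sq, h1, h2, h3, h4, hm.sq,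
            ← hc, true_or, or_true]
      inv_mem' := by
        rintro a (rfl | rfl | rfl | rfl) <;>
          simp only [Set.mem_setOf_eq, inv_one, ht.inv_eq, ht'.inv_eq, hm.inv_eq, true_or,
            or_true] }
  refine ⟨A, ⟨⟨⟨⟨?_⟩⟩, ?_⟩, ?_, ?_⟩, Or.inr (Or.inl rfl), Or.inr (Or.inr (Or.inl rfl)), ?_⟩
  · rintro ⟨a, ha⟩ ⟨b, hb⟩
    apply Subtype.ext
    show a * b = b * a
    have hs : ∀ c ∈ A, c⁻¹ = c := by
      rintro c (rfl | rfl | rfl | rfl)
      · exact inv_one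
      · exact ht.inv_eq
      · exact ht'.inv_eq
      · exact hm.inv_eq
    have := hs _ (A.mul_mem ha hb)
    rw [mul_inv_rev, hs a ha, hs b hb] at this
    exact this.symm
  · rintro a (rfl | rfl | rfl | rfl) <;> simp only [pow_two, one_mul, ht.sq, ht'.sq, hm.sq]
  · have e : Nat.card A = Nat.card (({1, t, t', t * t'} : Finset G) : Set G) :=
      Nat.card_congr (Equiv.setCongr (by
        ext x
        show (x = 1 ∨ x = t ∨ x = t' ∨ x = t * t') ↔ _
        simp))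
    rw [e, Nat.card_coe_set_eq, Set.ncard_coe_finset]
    rw [Finset.card_insert_of_notMem, Finset.card_insert_of_notMem, Finset.card_pair]
    · exact fun e => ht.ne_one (mul_eq_right.1 e.symm)
    · simp only [Finset.mem_insert, Finset.mem_singleton, not_or]
      exact ⟨hne, fun e => ht'.ne_one (by simpa using e.symm)⟩
    · simp only [Finset.mem_insert, Finset.mem_singleton, not_or]
      exact ⟨ht.ne_one.symm, ht'.ne_one.symm, hm.ne_one.symm⟩
  · rintro a (rfl | rfl | rfl | rfl) hne'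
    · exact absurd rfl hne'
    · exact ht
    · exact ht'
    · exact hm
  · rintro u hu hu' a (rfl | rfl | rfl | rfl)
    · rw [mul_one, one_mul]
    · exact hu
    · exact hu'
    · exact (Commute.mul_right (show Commute u t from hu) (show Commute u t' from hu')).eq

/-- The subgroup generated by the `O(C(e)) ∩ O(C(f))`. -/
def W (A₁ A₂ : Subgroup G) : Subgroup G :=
  ⨆ e : {e : G // e ∈ A₁ ∧ e ≠ 1}, ⨆ f : {f : G // f ∈ A₂ ∧ f ≠ 1}, K (e : G) ⊓ K (f : G)

/-- The part of `W` inside `O(C(y))`. -/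
def Phi (A : Subgroup G) (y : G) : Subgroup G :=
  ⨆ e : {e : G // e ∈ A ∧ e ≠ 1}, K (e : G) ⊓ K y

theorem T_le_Phi {A : Subgroup G} {e : G} (he : e ∈ A) (h1 : e ≠ 1) (y : G) :
    K e ⊓ K y ≤ Phi A y :=
  le_iSup (fun e : {e : G // e ∈ A ∧ e ≠ 1} => K (e : G) ⊓ K y) ⟨e, he, h1⟩

theorem T_le_W {A₁ A₂ : Subgroup G} {e f : G} (he : e ∈ A₁) (he1 : e ≠ 1) (hf : f ∈ A₂)
    (hf1 : f ≠ 1) : K e ⊓ K f ≤ W A₁ A₂ :=
  le_iSup₂ (f := fun (e : {e : G // e ∈ A₁ ∧ e ≠ 1}) (f : {f : G // f ∈ A₂ ∧ f ≠ 1}) =>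
    K (e : G) ⊓ K (f : G)) ⟨e, he, he1⟩ ⟨f, hf, hf1⟩

theorem Phi_le_W {A₁ A₂ : Subgroup G} {f : G} (hf : f ∈ A₂) (hf1 : f ≠ 1) :
    Phi A₁ f ≤ W A₁ A₂ := iSup_le fun e => T_le_W e.2.1 e.2.2 hf hf1

theorem W_comm (A₁ A₂ : Subgroup G) : W A₁ A₂ = W A₂ A₁ := by
  unfold W
  rw [iSup_comm]
  simp_rw [inf_comm]

theorem map_W_le (A₁ A₂ : Subgroup G) (g : G) :
    (W A₁ A₂).map (MulAut.conj g).toMonoidHom ≤
      W (A₁.map (MulAut.conj g).toMonoidHom) (A₂.map (MulAut.conj g).toMonoidHom) := by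
  refine map_le_iff_le_comap.2 (iSup₂_le fun e f => fun d hd => ?_)
  have h1 : ∀ {A : Subgroup G} (a : {a : G // a ∈ A ∧ a ≠ 1}),
      g * (a : G) * g⁻¹ ∈ A.map (MulAut.conj g).toMonoidHom ∧ g * (a : G) * g⁻¹ ≠ 1 :=
    fun a => ⟨⟨a, a.2.1, rfl⟩, fun e => a.2.2 (by simpa using e)⟩
  refine T_le_W (h1 e).1 (h1 e).2 (h1 f).1 (h1 f).2 (mem_inf.2 ⟨?_, ?_⟩)
  · rw [K, Balance.centralizerPPrimeCore_conj]; exact mem_map_of_mem _ hd.1
  · rw [K, Balance.centralizerPPrimeCore_conj]; exact mem_map_of_mem _ hd.2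

namespace Ctx

variable {P : Sylow 2 G} {S₁ S₂ : Subgroup G} (h : Ctx P S₁ S₂)
include h

/-- A four-group commuting with `y` absorbs `O(C(y))` after commuting. -/
theorem comm_le_Phi {A : Subgroup G} (hA : IsFour S₁ A) {y : G} (hy : TypeInv S₂ y)
    (hAy : ∀ a ∈ A, a * y = y * a) : ⁅K y, A⁆ ≤ Phi A y := by
  haveI : IsMulCommutative A := hA.el.1
  have hFT : FTDeps.Basic.OddOrderSolvable.{u} := fun _H _ _ hodd =>
    OddOrder.FeitThompson.isSolvable_of_odd_card hodd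
  have hAn : A ≤ normalizer (K y : Set G) := fun a ha =>
    Balance.centralizer_le_normalizer_centralizerPPrimeCore y
      (mem_centralizer_singleton_iff.2 (hAy a ha))
  have hcop : ∀ M : Subgroup G, M ≤ K y → (Nat.card A).Coprime (Nat.card M) := fun M hM =>
    FTDeps.Row1330.coprime_of_four (by rw [hA.card]) ((odd_K y).of_dvd_nat (card_dvd_of_le hM))
  have hsA : Group.IsSolvable A := Coprime.isSolvable_of_isPGroup (p := 2) hA.isPGroup
  set D := ⁅K y, A⁆ with hD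
  have hDK : D ≤ K y := Coprime.commutator_le_of_le_normalizer hAn
  have hDn : A ≤ normalizer (D : Set G) := Coprime.right_le_normalizer_commutator _ _
  have hDA : ⁅D, A⁆ = D := Coprime.commutator_commutator_eq hAn (hcop _ le_rfl) (Or.inl hsA)
  have hinv : ∀ e ∈ A, A ≤ normalizer ((D ⊓ centralizer ({e} : Set G) : Subgroup G) : Set G) :=
    fun e he => Coprime.le_normalizer_inf hDn fun a ha =>
      Subgroup.le_normalizer (mem_centralizer_singleton_iff.2 (hA.comm ha he))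
  have hpart : ∀ e ∈ A, e ≠ 1 → ⁅D ⊓ centralizer ({e} : Set G), A⁆ ≤ Phi A y := by
    intro e he he1
    refine (commutator_le.2 fun d hd a ha => ?_ : _ ≤ K e ⊓ K y).trans (T_le_Phi he he1 y)
    refine mem_inf.2 ⟨?_, commutator_mem_K (hAy a ha) (hDK hd.1)⟩
    by_cases ha1 : a = 1
    · rw [ha1, commutatorElement_one_right]; exact one_mem _
    exact h.comm_mem (hA.type a ha ha1) hy (h.centralizer_ne_top (hA.type e he he1))
      (hA.comm ha he) (hAy e he).symm (hAy a ha) (hDK hd.1)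
      (mem_centralizer_singleton_iff.1 hd.2)
  have hfix : D ⊓ centralizer (A : Set G) ≤ Phi A y := by
    rw [FTDeps.Row1329.main hFT A A D hA.isPGroup hA.el.1 le_rfl
      ((odd_K y).of_dvd_nat (card_dvd_of_le hDK)) hDn hDA]
    refine iSup_le fun B₀ => ?_
    obtain ⟨B₀, hB, hcyc⟩ := B₀
    by_cases hB₀ : B₀ = ⊥
    · subst hB₀
      haveI hn : ((⊥ : Subgroup G).subgroupOf A).Normal := inferInstance
      refine absurd ?_ hA.not_isCyclic
      haveI := @hcyc hn
      exact isCyclic_of_surjective (QuotientGroup.quotientMulEquivOfEq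
        (bot_subgroupOf A) |>.trans QuotientGroup.quotientBot).toMonoidHom (MulEquiv.surjective _)
    · obtain ⟨e, he, he1⟩ := (Subgroup.bot_or_exists_ne_one B₀).resolve_left hB₀
      refine inf_le_right.trans (le_trans (commutator_mono ?_ le_rfl) (hpart e (hB he) he1))
      exact inf_le_inf_left _ (centralizer_le (by simpa using he))
  calc D = ⨆ a ∈ {a : G | a ∈ A ∧ a ≠ 1}, D ⊓ centralizer {a} :=
        (Coprime.iSup_centralizer_eq hA.not_isCyclic hDn (hcop _ hDK)).symm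
    _ ≤ Phi A y := iSup₂_le fun e he x hx => by
        obtain ⟨n, hn, c, hc, rfl⟩ := Coprime.exists_commutator_mul_fixed (hinv e he.1)
          (hcop _ (inf_le_left.trans hDK)) (Or.inl hsA) hx
        exact mul_mem (hpart e he.1 he.2 hn) (hfix ⟨hc.1.1, hc.2⟩)

theorem T_le {A : Subgroup G} (hA : IsFour S₁ A) {y : G} (hy : TypeInv S₂ y)
    (hAy : ∀ a ∈ A, a * y = y * a) {x : G} (hx : x ∈ A) (hx1 : x ≠ 1) {x' : G}
    (hx' : TypeInv S₁ x') (hc : x' * x = x * x') (hc' : x' * y = y * x') :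
    K x' ⊓ K y ≤ Phi A y := by
  intro d hd
  have hxt := hA.type x hx hx1
  have hn : zpowers x ≤ normalizer ((K x' ⊓ K y : Subgroup G) : Set G) :=
    Coprime.le_normalizer_inf
      (zpowers_le.2 (Balance.centralizer_le_normalizer_centralizerPPrimeCore x'
        (mem_centralizer_singleton_iff.2 hc.symm)))
      (zpowers_le.2 (Balance.centralizer_le_normalizer_centralizerPPrimeCore y
        (mem_centralizer_singleton_iff.2 (hAy x hx))))
  obtain ⟨n, hn', c, hcm, rfl⟩ := Coprime.exists_commutator_mul_fixed hn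
    (by rw [Nat.card_zpowers, hxt.1]
        exact Nat.coprime_two_left.2 ((odd_K y).of_dvd_nat (card_dvd_of_le inf_le_right)))
    (Or.inl (Coprime.isSolvable_of_isPGroup (p := 2) (isPGroup_zpowers_two hxt.1))) hd
  refine mul_mem (h.comm_le_Phi hA hy hAy
    (commutator_mono inf_le_right (zpowers_le.2 hx) hn')) (T_le_Phi hx hx1 y (mem_inf.2 ⟨?_, hcm.1.2⟩))
  exact h.inter hx' hy (h.centralizer_ne_top hxt) hc (hAy x hx).symm hcm.1.1 hcm.1.2
    (mem_centralizer_iff.1 hcm.2 x (mem_zpowers x)).symm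

theorem W_le_of_share {A B A₂ : Subgroup G} (hA : IsFour S₁ A) (hB : IsFour S₁ B)
    (hA₂ : IsFour S₂ A₂) (hcA : ∀ a ∈ A, ∀ b ∈ A₂, a * b = b * a)
    (hcB : ∀ a ∈ B, ∀ b ∈ A₂, a * b = b * a) {x : G} (hxA : x ∈ A) (hxB : x ∈ B) (hx1 : x ≠ 1) :
    W A A₂ ≤ W B A₂ :=
  iSup₂_le fun e f =>
    (h.T_le hB (hA₂.type f f.2.1 f.2.2) (fun a ha => hcB a ha f f.2.1) hxB hx1
      (hA.type e e.2.1 e.2.2) (hA.comm e.2.1 hxA) (hcA e e.2.1 f f.2.1)).trans
      (Phi_le_W f.2.1 f.2.2)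

theorem comm_le_W {A₁ A₂ : Subgroup G} (h₁ : IsFour S₁ A₁) (h₂ : IsFour S₂ A₂)
    (hc : ∀ a ∈ A₁, ∀ b ∈ A₂, a * b = b * a) {x : G} (hx : x ∈ A₁) (hx1 : x ≠ 1) :
    ⁅K x, A₂⁆ ≤ W A₁ A₂ := by
  rw [W_comm]
  exact (h.symm.comm_le_Phi h₂ (h₁.type x hx hx1) fun b hb => (hc x hx b hb).symm).trans
    (Phi_le_W hx hx1)

/-- `O(C(x))` normalises `W A₁ A₂` for `x ∈ A₁`. -/
theorem K_le_normalizer_W {A₁ A₂ : Subgroup G} (h₁ : IsFour S₁ A₁) (h₂ : IsFour S₂ A₂)
    (hc : ∀ a ∈ A₁, ∀ b ∈ A₂, a * b = b * a) {x : G} (hx : x ∈ A₁) (hx1 : x ≠ 1) :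
    K x ≤ normalizer (W A₁ A₂ : Set G) := by
  intro k hk
  obtain ⟨n, hn, c, hcc, rfl⟩ := Coprime.exists_commutator_mul_fixed (A := A₂) (K := K x)
    (fun b hb => Balance.centralizer_le_normalizer_centralizerPPrimeCore x
      (mem_centralizer_singleton_iff.2 (hc x hx b hb).symm))
    (FTDeps.Row1330.coprime_of_four (by rw [h₂.card]) (odd_K x))
    (Or.inl (Coprime.isSolvable_of_isPGroup (p := 2) h₂.isPGroup)) hk
  refine mul_mem (Subgroup.le_normalizer (h.comm_le_W h₁ h₂ hc hx hx1 hn))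
    (mem_normalizer_iff_map_conj_eq.2 ?_)
  have hcb : ∀ b ∈ A₂, c * b = b * c := fun b hb => (mem_centralizer_iff.1 hcc.2 b hb).symm
  have e₂ : A₂.map (MulAut.conj c).toMonoidHom = A₂ := by
    refine le_antisymm ?_ fun b hb => ⟨b, hb, ?_⟩
    · rintro _ ⟨b, hb, rfl⟩
      show c * b * c⁻¹ ∈ A₂
      rwa [hcb b hb, mul_inv_cancel_right]
    · show c * b * c⁻¹ = b
      rw [hcb b hb, mul_inv_cancel_right]
  refine Subgroup.eq_of_le_of_card_ge ((map_W_le A₁ A₂ c).trans ?_)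
    (by rw [Subgroup.card_map_of_injective (MulAut.conj c).injective])
  rw [e₂]
  refine h.W_le_of_share (h₁.map c) h₁ h₂ ?_ hc (x := x) ⟨x, hx, ?_⟩ hx hx1
  · rintro _ ⟨a, ha, rfl⟩ b hb
    show c * a * c⁻¹ * b = b * (c * a * c⁻¹)
    have h1 : Commute c b := hcb b hb
    exact ((h1.mul_left (hc a ha b hb)).mul_left h1.inv_left).eq
  · show c * x * c⁻¹ = x
    rw [commute_K hcc.1, mul_inv_cancel_right]

/-- A commuting involution of the first type lies in a pair with the same `W`. -/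
theorem move {B₁ B₂ : Subgroup G} (h₁ : IsFour S₁ B₁) (h₂ : IsFour S₂ B₂)
    (hc : ∀ a ∈ B₁, ∀ b ∈ B₂, a * b = b * a) {x x' : G} (hx : x ∈ B₁) (hx1 : x ≠ 1)
    (hx' : TypeInv S₁ x') (hxx : x * x' = x' * x) :
    ∃ C₁ C₂ : Subgroup G, IsFour S₁ C₁ ∧ IsFour S₂ C₂ ∧ (∀ a ∈ C₁, ∀ b ∈ C₂, a * b = b * a) ∧
      x' ∈ C₁ ∧ W C₁ C₂ = W B₁ B₂ := by
  by_cases hne : x' = x
  · exact ⟨B₁, B₂, h₁, h₂, hc, hne ▸ hx, rfl⟩
  have hxt := h₁.type x hx hx1
  obtain ⟨J₁, J₂, hn₁, hn₂, hm₁, hm₂, hJ⟩ := h.exists_closures (h.centralizer_ne_top hxt)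
  have hbx : ∀ b ∈ B₂, b ∈ centralizer ({x} : Set G) := fun b hb =>
    mem_centralizer_singleton_iff.2 (hc x hx b hb).symm
  have hx'C : x' ∈ centralizer ({x} : Set G) := mem_centralizer_singleton_iff.2 hxx.symm
  have hk : ∀ b ∈ B₂, b * x' * b⁻¹ * x'⁻¹ ∈ K x := by
    intro b hb
    by_cases hb1 : b = 1
    · rw [hb1]; simp
    have hm := hJ (commutator_mem_commutator (hm₁ ⟨x', hx'C⟩ hx')
      (hm₂ ⟨b, hbx b hb⟩ (h₂.type b hb hb1)))
    have hm' : ⁅x', b⁆ ∈ K x := mem_map_of_mem (centralizer ({x} : Set G)).subtype hm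
    have := inv_mem hm'
    rwa [commutatorElement_inv, commutatorElement_def] at this
  obtain ⟨n, hn, hnc⟩ := Coprime.exists_fixed_mul (A := B₂) (N := K x)
    (fun b hb => Balance.centralizer_le_normalizer_centralizerPPrimeCore x (hbx b hb))
    (FTDeps.Row1330.coprime_of_four (by rw [h₂.card]) (odd_K x))
    (Or.inr (OddOrder.FeitThompson.isSolvable_of_odd_card (odd_K x))) hk
  set q := n * x' with hq
  have hq2 : q * q ∈ K x := by
    rw [hq, show n * x' * (n * x') = n * (x' * n * x'⁻¹) * (x' * x') by group, hx'.sq, mul_one]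
    exact mul_mem hn (conj_mem_K hxx.symm hn)
  obtain ⟨j, hj⟩ := (odd_K x).of_dvd_nat (Subgroup.orderOf_dvd_natCard _ hq2)
  set n' := (q * q) ^ j * n with hn'
  have hn'K : n' ∈ K x := mul_mem (pow_mem hq2 j) hn
  set i := n' * x' with hi
  have hiq : i = q ^ (2 * j + 1) := by
    rw [hi, hn', mul_assoc, ← hq, pow_succ, pow_mul, pow_two]
  have hii : i * i = 1 := by
    rw [hiq, ← (Commute.refl q).mul_pow, ← hj, pow_orderOf_eq_one]
  have hinv : x' * n' * x'⁻¹ = n'⁻¹ := by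
    rw [eq_inv_iff_mul_eq_one, hx'.inv_eq]
    calc x' * n' * x' * n' = n'⁻¹ * (n' * x' * (n' * x')) * n' := by group
      _ = 1 := by rw [← hi, hii]; group
  obtain ⟨m, hm⟩ := (odd_K x).of_dvd_nat (Subgroup.orderOf_dvd_natCard _ hn'K)
  set o := n' ^ (m + 1) with ho
  have hoK : o ∈ K x := pow_mem hn'K _
  have hox : o * x' * o⁻¹ = i := by
    have h1 : x' * o⁻¹ * x'⁻¹ = o := by
      rw [ho, ← inv_pow, ← conj_pow,
        show x' * n'⁻¹ * x'⁻¹ = (x' * n' * x'⁻¹)⁻¹ by group, hinv, inv_inv]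
    rw [show o * x' * o⁻¹ = o * (x' * o⁻¹ * x'⁻¹) * x' by group, h1, hi, ho, ← pow_add,
      show m + 1 + (m + 1) = orderOf n' + 1 by omega, pow_succ, pow_orderOf_eq_one, one_mul]
  have hit : TypeInv S₁ i := hox ▸ hx'.conj o
  have hix : i * x = x * i := by
    rw [hi]
    exact (Commute.mul_left (show Commute n' x from commute_K hn'K)
      (show Commute x' x from hxx.symm)).eq
  have hixne : x ≠ i := by
    intro e
    apply hne
    have hc' : o * x = x * o := commute_K hoK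
    rw [← hox] at e
    calc x' = o⁻¹ * (o * x' * o⁻¹) * o := by group
      _ = o⁻¹ * x * o := by rw [← e]
      _ = x := by rw [mul_assoc, ← hc', inv_mul_cancel_left]
  obtain ⟨C, hC, hxC, hiC, hCc⟩ := exists_four h.toSetup hxt hit hix.symm hixne
  have hib : ∀ b ∈ B₂, b * i = i * b := fun b hb => by
    rw [hiq]; exact ((show Commute b q from mem_centralizer_iff.1 hnc b hb).pow_right _).eq
  have hCB : ∀ a ∈ C, ∀ b ∈ B₂, a * b = b * a := fun a ha b hb =>
    (hCc b (hc x hx b hb).symm (hib b hb) a ha).symm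
  have hWC : W C B₂ = W B₁ B₂ := le_antisymm (h.W_le_of_share hC h₁ h₂ hCB hc hxC hx hx1)
    (h.W_le_of_share h₁ hC h₂ hc hCB hx hxC hx1)
  have hoN : o⁻¹ ∈ normalizer (W C B₂ : Set G) :=
    inv_mem (h.K_le_normalizer_W hC h₂ hCB hxC hx1 hoK)
  set f := (MulAut.conj o⁻¹).toMonoidHom
  refine ⟨C.map f, B₂.map f, hC.map _, h₂.map _, ?_, ⟨i, hiC, ?_⟩, ?_⟩
  · rintro _ ⟨a, ha, rfl⟩ _ ⟨b, hb, rfl⟩
    rw [← map_mul, hCB a ha b hb, map_mul]
  · show o⁻¹ * i * o⁻¹⁻¹ = x'
    rw [← hox]; group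
  · rw [← hWC]
    refine le_antisymm ?_ ?_
    · have := map_W_le (C.map f) (B₂.map f) o
      rw [map_map, map_map] at this
      have e : (MulAut.conj o).toMonoidHom.comp f = MonoidHom.id G := by
        ext z; simp [f, mul_assoc]
      rw [e, map_id, map_id] at this
      intro w hw
      have hw' := this (mem_map_of_mem _ hw)
      have := (mem_normalizer_iff.1 hoN _).1 hw'
      simpa [mul_assoc] using this
    · rw [← mem_normalizer_iff_map_conj_eq.1 hoN]
      exact map_W_le C B₂ o⁻¹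

/-- `W A₁ A₂` has odd order. -/
theorem odd_W {A₁ A₂ : Subgroup G} (h₁ : IsFour S₁ A₁) (h₂ : IsFour S₂ A₂)
    (hc : ∀ a ∈ A₁, ∀ b ∈ A₂, a * b = b * a) : Odd (Nat.card (W A₁ A₂)) := by
  haveI : Fact (Nat.Prime 2) := ⟨Nat.prime_two⟩
  have hFT : FTDeps.Basic.OddOrderSolvable.{u} := fun _H _ _ hodd =>
    OddOrder.FeitThompson.isSolvable_of_odd_card hodd
  have hdisj : A₁ ⊓ A₂ = ⊥ := (Subgroup.eq_bot_iff_forall _).2 fun x hx => by
    by_contra hx1
    exact h.not_both (h₁.type x hx.1 hx1) (h₂.type x hx.2 hx1)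
  have hne : A₁ ≠ A₂ := fun e => by
    rw [← e, inf_idem] at hdisj
    have := h₁.card
    rw [hdisj, card_bot] at this
    norm_num at this
  have hn : A₂ ≤ normalizer (A₁ : Set G) := fun b hb =>
    centralizer_le_normalizer _ (mem_centralizer_iff.2 fun a ha => hc a ha b hb)
  have hsplit : ∀ a ∈ A₁ ⊔ A₂, ∃ u ∈ A₁, ∃ v ∈ A₂, a = u * v := fun a ha =>
    FTDeps.Row1330.mem_sup_iff_of_normalizes hn ha
  have htop : ∀ a ∈ A₁ ⊔ A₂, a ≠ 1 → centralizer ({a} : Set G) ≠ ⊤ := by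
    intro a ha ha1 e
    obtain ⟨u, hu, v, hv, rfl⟩ := hsplit a ha
    have hz : u * v ∈ center G :=
      mem_center_iff.2 fun g => mem_centralizer_singleton_iff.1 (e ▸ mem_top g)
    by_cases hu1 : u = 1
    · rw [hu1, one_mul] at hz ha1
      exact h.symm.type_noncentral (h₂.type v hv ha1) hz
    by_cases hv1 : v = 1
    · rw [hv1, mul_one] at hz
      exact h.type_noncentral (h₁.type u hu hu1) hz
    exact h.pair_noncentral (h₁.type u hu hu1) (h₂.type v hv hv1) (hc u hu v hv) hz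
  have hsep : ∀ a ∈ A₁ ⊔ A₂, a ≠ 1 → ∀ E : Subgroup ↥(centralizer ({a} : Set G)),
      IsPComponent 2 E →
      ⁅E.map (centralizer ({a} : Set G)).subtype, A₁⁆ ≤ centralizerPPrimeCore 2 a ∨
      ⁅E.map (centralizer ({a} : Set G)).subtype, A₂⁆ ≤ centralizerPPrimeCore 2 a := by
    intro a ha ha1 E hE
    obtain ⟨J₁, J₂, hn₁, hn₂, hm₁, hm₂, hJ⟩ := h.exists_closures (htop a ha ha1)
    have hcomm : ∀ b, (b ∈ A₁ ∨ b ∈ A₂) → b ∈ centralizer ({a} : Set G) := by
      intro b hb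
      obtain ⟨u, hu, v, hv, rfl⟩ := hsplit a ha
      rw [mem_centralizer_singleton_iff]
      rcases hb with hb | hb
      · exact ((show Commute b u from h₁.comm hb hu).mul_right (hc b hb v hv)).eq
      · exact (Commute.mul_right (show Commute b u from (hc u hu b hb).symm)
          (show Commute b v from h₂.comm hb hv)).eq
    have finish : ∀ (S A : Subgroup G), IsFour S A →
        (∀ b (hb : b ∈ centralizer ({a} : Set G)), TypeInv S b →
          ∀ x ∈ E.map (proj a), x * proj a ⟨b, hb⟩ = proj a ⟨b, hb⟩ * x) →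
        (∀ b ∈ A, b ∈ centralizer ({a} : Set G)) →
        ⁅E.map (centralizer ({a} : Set G)).subtype, A⁆ ≤ centralizerPPrimeCore 2 a := by
      intro S A hA hcom hAc
      rw [commutator_le]
      rintro _ ⟨e, he, rfl⟩ b hb
      by_cases hb1 : b = 1
      · rw [hb1, commutatorElement_one_right]; exact one_mem _
      refine (mem_K_iff ⁅e, (⟨b, hAc b hb⟩ : ↥(centralizer ({a} : Set G)))⁆).2 ?_
      rw [map_commutatorElement, commutatorElement_eq_one_iff_mul_comm]
      exact hcom b (hAc b hb) (hA.type b hb hb1) _ (mem_map_of_mem _ he)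
    rcases Component.le_or_commutator_eq_bot hE.2.1
      (hn₁.map (proj a) (QuotientGroup.mk'_surjective _)).isSubnormal with h' | h'
    · refine Or.inr (finish S₂ A₂ h₂ (fun b hb hbt x hx => ?_) fun b hb => hcomm b (Or.inr hb))
      obtain ⟨j, hj, rfl⟩ := h' hx
      refine commutatorElement_eq_one_iff_mul_comm.1 ?_
      rw [← map_commutatorElement]
      exact (QuotientGroup.eq_one_iff _).2
        (hJ (commutator_mem_commutator hj (hm₂ ⟨b, hb⟩ hbt)))
    · refine Or.inl (finish S₁ A₁ h₁ (fun b hb hbt x hx => ?_) fun b hb => hcomm b (Or.inl hb))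
      exact mem_centralizer_iff.1 (commutator_eq_bot_iff_le_centralizer.1 h'
        (mem_map_of_mem _ (hm₁ ⟨b, hb⟩ hbt))) x hx
  have hcs : IsCoreSeparated A₁ A₂ := ⟨h₁.el, h₂.el, h₁.card, h₂.card, hne, hdisj, hc, hsep⟩
  have hP : FTDeps.Row1330.Pair A₁ A₂ := ⟨h₁.el, h₂.el, h₁.card, h₂.card, hc, hsep⟩
  set θ := fun a : G => FTDeps.Row1330.half A₁ a ⊓ FTDeps.Row1330.half A₂ a with hθ
  have hfun : IsSignalizerFunctor 2 (A₁ ⊔ A₂) θ := FTDeps.Row1330.main hFT A₁ A₂ hcs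
  have hsolv : IsSolvableSignalizerFunctor 2 (A₁ ⊔ A₂) θ :=
    ⟨hfun, fun a ha ha1 => OddOrder.FeitThompson.isSolvable_of_odd_card
      ((odd_K a).of_dvd_nat (card_dvd_of_le (inf_le_left.trans (hP.half_le ha))))⟩
  have hel : IsElementaryAbelian 2 (A₁ ⊔ A₂) :=
    ⟨⟨⟨fun a b => Subtype.ext (hP.comm_sup a.2 b.2)⟩⟩, fun a ha => hP.sq ha⟩
  have h8 : 2 ^ 3 ≤ Nat.card ↥(A₁ ⊔ A₂) := by
    obtain ⟨k, hk⟩ := h₁.card ▸ card_dvd_of_le (le_sup_left : A₁ ≤ A₁ ⊔ A₂)
    have hpos : 0 < Nat.card ↥(A₁ ⊔ A₂) := Nat.card_pos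
    by_contra hlt
    have he : A₁ = A₁ ⊔ A₂ := Subgroup.eq_of_le_of_card_ge le_sup_left (by
      rw [h₁.card]; omega)
    refine hne ((Subgroup.eq_of_le_of_card_ge (he ▸ le_sup_right) ?_).symm)
    rw [h₁.card, h₂.card]
  obtain ⟨hmem, -⟩ := Signalizer.Completes.closure hel h8 hfun
    (Signalizer.completes_two hel h8 hsolv)
  have hW : W A₁ A₂ ≤ signalizerClosure (A₁ ⊔ A₂) θ := by
    refine iSup₂_le fun e f => le_trans ?_
      (le_iSup (fun a : {a : G // a ∈ A₁ ⊔ A₂ ∧ a ≠ 1} => θ (a : G))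
        ⟨e, mem_sup_left e.2.1, e.2.2⟩)
    have hnK : ∀ {A : Subgroup G} {a : G}, (∀ b ∈ A, b * a = a * b) →
        A ≤ normalizer (K a : Set G) := fun hb b hbA =>
      Balance.centralizer_le_normalizer_centralizerPPrimeCore _
        (mem_centralizer_singleton_iff.2 (hb b hbA))
    have hfour : ∀ {S A M : Subgroup G}, IsFour S A → Odd (Nat.card M) →
        (Nat.card A).Coprime (Nat.card M) := fun hA hM =>
      FTDeps.Row1330.coprime_of_four (by rw [hA.card]) hM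
    refine le_inf (fun d hd => ?_) (fun d hd => ?_)
    · obtain ⟨n, hn', c, hcm, rfl⟩ := Coprime.exists_commutator_mul_fixed
        (hnK fun b hb => h₁.comm hb e.2.1) (hfour h₁ (odd_K _))
        (Or.inl (Coprime.isSolvable_of_isPGroup (p := 2) h₁.isPGroup)) hd.1
      refine mul_mem (mem_sup_left hn') (mem_sup_right (mem_inf.2 ⟨hcm.1, ?_⟩))
      refine Balance.le_coreIn (N := K (e : G) ⊓ centralizer (A₁ : Set G)) inf_le_right ?_
        (Nat.coprime_two_right.2 ((odd_K (e : G)).of_dvd_nat (card_dvd_of_le inf_le_left))) hcm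
      exact Coprime.le_normalizer_inf (fun g hg =>
        Balance.centralizer_le_normalizer_centralizerPPrimeCore _
          (mem_centralizer_singleton_iff.2 (mem_centralizer_iff.1 hg e e.2.1).symm))
        Subgroup.le_normalizer
    · obtain ⟨n, hn', c, hcm, rfl⟩ := Coprime.exists_commutator_mul_fixed
        (A := A₂) (K := K (e : G) ⊓ K (f : G))
        (Coprime.le_normalizer_inf (hnK fun b hb => (hc e e.2.1 b hb).symm)
          (hnK fun b hb => h₂.comm hb f.2.1))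
        (hfour h₂ ((odd_K _).of_dvd_nat (card_dvd_of_le inf_le_left)))
        (Or.inl (Coprime.isSolvable_of_isPGroup (p := 2) h₂.isPGroup)) hd
      refine mul_mem (mem_sup_left (commutator_mono inf_le_left le_rfl hn'))
        (mem_sup_right (mem_inf.2 ⟨hcm.1.1, ?_⟩))
      refine Balance.le_coreIn (N := K (f : G) ⊓ centralizer (A₂ : Set G)) inf_le_right ?_
        (Nat.coprime_two_right.2 ((odd_K (f : G)).of_dvd_nat (card_dvd_of_le inf_le_left)))
        ⟨hcm.1.2, hcm.2⟩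
      exact Coprime.le_normalizer_inf (fun g hg =>
        Balance.centralizer_le_normalizer_centralizerPPrimeCore _
          (mem_centralizer_singleton_iff.2 (mem_centralizer_iff.1 hg f f.2.1).symm))
        Subgroup.le_normalizer
  refine Nat.not_even_iff_odd.1 fun hev => hmem.2.1 ?_
  exact (even_iff_two_dvd.1 hev).trans (card_dvd_of_le hW)

end Ctx

end Cfsg.Agent.Lib.ProductFusion
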