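import Mathlib
import Cfsg.Agent.Lib.ProductFusion.Pair
import Cfsg.Agent.S1250

/-!
# Commuting strongly closed 2-subgroups have commuting normal closures modulo the core

Owner: helper78. This is Goldschmidt's product fusion theorem (the commutator part).
-/

set_option autoImplicit false
set_option linter.style.haveILetI false
set_option linter.unusedSectionVars false

open Cfsg Subgroup
open scoped commutatorElement

namespace Cfsg.Agent.Lib.ProductFusion

universe u

variable {G : Type u} [Group G] [Finite G]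

/-- Joined by a chain of commuting involutions of the type given by `S`. -/
def Reach (S : Subgroup G) : G → G → Prop :=
  Relation.ReflTransGen fun s s' => TypeInv S s ∧ TypeInv S s' ∧ s * s' = s' * s

theorem Reach.symm {S : Subgroup G} {a b : G} (h : Reach S a b) : Reach S b a := by
  induction h with
  | refl => exact Relation.ReflTransGen.refl
  | tail _ hstep ih => exact Relation.ReflTransGen.head ⟨hstep.2.1, hstep.1, hstep.2.2.symm⟩ ih

theorem Reach.trans {S : Subgroup G} {a b c : G} (h : Reach S a b) (h' : Reach S b c) :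
    Reach S a c := Relation.ReflTransGen.trans h h'

theorem Reach.conj {S : Subgroup G} {a b : G} (h : Reach S a b) (g : G) :
    Reach S (g * a * g⁻¹) (g * b * g⁻¹) :=
  Relation.ReflTransGen.lift (fun x => g * x * g⁻¹) (fun x y hxy =>
    ⟨hxy.1.conj g, hxy.2.1.conj g, by
      rw [show g * x * g⁻¹ * (g * y * g⁻¹) = g * (x * y) * g⁻¹ by group, hxy.2.2]; group⟩) _ _ h

theorem dihedral_conj {t d : G} (htd : t * d * t⁻¹ = d⁻¹) (i : ℕ) :
    d ^ i * t * (d ^ i)⁻¹ = d ^ (2 * i) * t := by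
  have h1 : t * (d ^ i)⁻¹ * t⁻¹ = d ^ i := by
    rw [← inv_pow, ← conj_pow, show t * d⁻¹ * t⁻¹ = (t * d * t⁻¹)⁻¹ by group, htd, inv_inv]
  calc d ^ i * t * (d ^ i)⁻¹ = d ^ i * (t * (d ^ i)⁻¹ * t⁻¹) * t := by group
    _ = d ^ (2 * i) * t := by rw [h1, ← pow_add, two_mul]

theorem pPrimeCore_normal_eq_bot (hO : pPrimeCore 2 G = ⊥) (M : Subgroup G) [M.Normal] :
    pPrimeCore 2 ↥M = ⊥ := by
  haveI : Fact (Nat.Prime 2) := ⟨Nat.prime_two⟩
  have h : Balance.coreIn 2 M ≤ ⊥ := by
    refine (Balance.coreIn_le_coreIn (p := 2) (K := ⊤) le_top ?_).trans ?_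
    · rw [Subgroup.normalizer_eq_top]
    · rw [Balance.coreIn_top, hO]
  exact (Subgroup.map_eq_bot_iff_of_injective _ M.subtype_injective).1 (le_bot_iff.1 h)

theorem closure_type_normal (S : Subgroup G) :
    (closure {t : G | TypeInv S t}).Normal := by
  refine ⟨fun x hx g => ?_⟩
  have : closure {t : G | TypeInv S t} ≤
      (closure {t : G | TypeInv S t}).comap (MulAut.conj g).toMonoidHom := by
    rw [closure_le]
    exact fun t ht => subset_closure (ht.conj g)
  exact this hx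

namespace Ctx

variable {P : Sylow 2 G} {S₁ S₂ : Subgroup G} (h : Ctx P S₁ S₂)
include h

/-- A non-trivial element of `S₁` gives an involution there. -/
theorem exists_inv_of_ne_bot {M : Subgroup G} (hne : S₁ ⊓ M ≠ ⊥) :
    ∃ v ∈ S₁ ⊓ M, orderOf v = 2 := by
  haveI : Fact (Nat.Prime 2) := ⟨Nat.prime_two⟩
  obtain ⟨n, hn⟩ := IsPGroup.iff_card.1 ((P.2.to_le h.sc₁.1).to_le (inf_le_left : S₁ ⊓ M ≤ S₁))
  obtain ⟨v, hv⟩ := exists_prime_orderOf_dvd_card' 2 (show 2 ∣ Nat.card ↥(S₁ ⊓ M) from by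
    rw [hn]
    exact dvd_pow_self 2 fun e => hne (Subgroup.card_eq_one.1 (by rw [hn, e, pow_zero])))
  exact ⟨v, v.2, by rw [Subgroup.orderOf_coe, hv]⟩

/-- No involution of `S₁` is central in a normal subgroup containing it. -/
theorem no_central {M : Subgroup G} [M.Normal] {v : G} (hv : v ∈ S₁) (hv2 : orderOf v = 2)
    (hvM : v ∈ M) (hc : ∀ m ∈ M, m * v = v * m) : False := by
  haveI : Fact (Nat.Prime 2) := ⟨Nat.prime_two⟩
  let Y : Subgroup G :=
    { carrier := {x | x ∈ M ∧ (∀ m ∈ M, m * x = x * m) ∧ x * x = 1}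
      one_mem' := ⟨M.one_mem, fun m _ => by simp, one_mul 1⟩
      mul_mem' := fun {a b} ha hb => ⟨M.mul_mem ha.1 hb.1, fun m hm =>
        ((show Commute m a from ha.2.1 m hm).mul_right (hb.2.1 m hm)).eq, by
          rw [show a * b * (a * b) = a * (b * a) * b by group, ha.2.1 b hb.1,
            show a * (a * b) * b = a * a * (b * b) by group, ha.2.2, hb.2.2, one_mul]⟩
      inv_mem' := fun {a} ha => by
        rw [Set.mem_setOf_eq, inv_eq_of_mul_eq_one_right ha.2.2]
        exact ha }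
  have hYn : Y.Normal := ⟨fun x hx g => ⟨Subgroup.Normal.conj_mem inferInstance x hx.1 g,
    fun m hm => by
      have := congrArg (MulAut.conj g) (hx.2.1 (g⁻¹ * m * g)
        (Subgroup.Normal.conj_mem' inferInstance m hm g))
      simpa [mul_assoc] using this,
    by rw [show g * x * g⁻¹ * (g * x * g⁻¹) = g * (x * x) * g⁻¹ by group, hx.2.2]; group⟩⟩
  have hY2 : IsPGroup 2 ↥Y := fun x => ⟨1, Subtype.ext (by
    show (x : G) ^ (2 ^ 1) = 1
    rw [pow_one, pow_two]; exact x.2.2.2)⟩
  have hYP : Y ≤ (P : Subgroup G) := fun x hx => by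
    obtain ⟨g, hg⟩ := exists_conj_le P hY2
    have h1 : g⁻¹ * x * g⁻¹⁻¹ ∈ Y := hYn.conj_mem x hx g⁻¹
    simpa [mul_assoc] using hg _ h1
  have hvY : v ∈ Y := ⟨hvM, hc, (TypeInv.of_mem hv2 hv).sq⟩
  have hle : normalClosure ({v} : Set G) ≤ S₁ := by
    rw [normalClosure, closure_le]
    intro x hx
    obtain ⟨a, rfl, hxc⟩ := Group.mem_conjugatesOfSet_iff.1 hx
    obtain ⟨g, rfl⟩ := isConj_iff.1 hxc
    exact h.sc₁.2 _ hv g (hYP (hYn.conj_mem _ hvY g))
  have := h.hno₁ _ normalClosure_normal hle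
  exact (TypeInv.of_mem hv2 hv).ne_one
    (mem_bot.1 (this ▸ subset_normalClosure (Set.mem_singleton v)))

/-- If a proper normal subgroup contains every involution of the second type, `S₁` centralises
the subgroup they generate. -/
theorem le_centralizer_of_proper {M : Subgroup G} [M.Normal]
    (hM : M ≠ ⊤) (hgen : M = closure {u : G | TypeInv S₂ u}) :
    S₁ ≤ centralizer (M : Set G) := by
  have hcore : pPrimeCore 2 ↥M = ⊥ := pPrimeCore_normal_eq_bot h.hO M
  have hdisj : S₁ ⊓ M = ⊥ := by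
    by_contra hne
    obtain ⟨v, hv, hv2⟩ := h.exists_inv_of_ne_bot hne
    obtain ⟨J₁, J₂, -, -, hm₁, hm₂, hJ⟩ := h.exists_closures hM
    refine h.no_central hv.1 hv2 hv.2 ?_
    have : M ≤ centralizer ({v} : Set G) := by
      rw [hgen, closure_le]
      intro u hu
      have huM : u ∈ M := hgen ▸ subset_closure hu
      have hm := hJ (commutator_mem_commutator (hm₁ ⟨v, hv.2⟩ (TypeInv.of_mem hv2 hv.1))
        (hm₂ ⟨u, huM⟩ hu))
      rw [hcore, mem_bot, commutatorElement_eq_one_iff_mul_comm] at hm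
      exact mem_centralizer_singleton_iff.2 (congrArg Subtype.val hm).symm
    exact fun m hm => mem_centralizer_singleton_iff.1 (this hm)
  exact ZStar.StronglyClosed.le_centralizer P S₁ h.sc₁ M
    (by rw [Subgroup.normalizer_eq_top]; exact le_top) hcore hdisj

theorem commute_of_proper {N : Subgroup G} [N.Normal] (hN : N ≠ ⊤)
    (hall : ∀ u, TypeInv S₂ u → u ∈ N) {t u : G} (ht : TypeInv S₁ t) (hu : TypeInv S₂ u) :
    t * u = u * t := by
  haveI := closure_type_normal (G := G) S₂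
  have hne : closure {u : G | TypeInv S₂ u} ≠ ⊤ := fun e =>
    hN (top_le_iff.1 (e ▸ (closure_le N).2 hall))
  have hle := h.le_centralizer_of_proper hne rfl
  obtain ⟨g, hg⟩ := ht.2
  have h1 := mem_centralizer_iff.1 (hle hg) _ (subset_closure (hu.conj g))
  exact ((MulAut.conj g).injective (by simpa only [map_mul, MulAut.conj_apply] using h1)).symm

/-- Commuting involutions of the two types lie in commuting four-groups. -/
theorem exists_pair {x y : G} (hx : TypeInv S₁ x) (hy : TypeInv S₂ y) (hc : x * y = y * x) :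
    ∃ A₁ A₂ : Subgroup G, IsFour S₁ A₁ ∧ IsFour S₂ A₂ ∧ (∀ a ∈ A₁, ∀ b ∈ A₂, a * b = b * a) ∧
      x ∈ A₁ ∧ y ∈ A₂ := by
  obtain ⟨g, hg⟩ := exists_conj_le P (isPGroup_pair hx.1 hy.1 hc)
  have hx1 : g * x * g⁻¹ ∈ S₁ :=
    h.mem_of_type (hx.conj g) (hg x (mem_sup_left (mem_zpowers x)))
  have hy1 : g * y * g⁻¹ ∈ S₂ :=
    h.symm.mem_of_type (hy.conj g) (hg y (mem_sup_right (mem_zpowers y)))
  obtain ⟨s, hs, hs2, hsne, hsc⟩ := h.exists_other (hx.conj g).1 hx1
  obtain ⟨r, hr, hr2, hrne, hrc⟩ := h.symm.exists_other (hy.conj g).1 hy1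
  obtain ⟨A, hA, hxA, -, hAc⟩ :=
    exists_four h.toSetup (hx.conj g) (TypeInv.of_mem hs2 hs) hsc hsne.symm
  obtain ⟨B, hB, hyB, -, hBc⟩ :=
    exists_four h.symm.toSetup (hy.conj g) (TypeInv.of_mem hr2 hr) hrc hrne.symm
  have hAB : ∀ a ∈ A, ∀ b ∈ B, a * b = b * a := fun a ha b hb => by
    refine hBc a ?_ ?_ b hb
    · exact (hAc _ (h.comm _ hx1 _ hy1).symm (h.comm _ hs _ hy1).symm a ha).symm
    · exact (hAc _ (h.comm _ hx1 _ hr).symm (h.comm _ hs _ hr).symm a ha).symm
  refine ⟨A.map (MulAut.conj g⁻¹).toMonoidHom, B.map (MulAut.conj g⁻¹).toMonoidHom, hA.map _,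
    hB.map _, ?_, ⟨_, hxA, conj_conj_inv g x⟩, ⟨_, hyB, conj_conj_inv g y⟩⟩
  rintro _ ⟨a, ha, rfl⟩ _ ⟨b, hb, rfl⟩
  rw [← map_mul, hAB a ha b hb, map_mul]

/-- The dihedral group of two involutions of different types. -/
theorem dihedral {t u : G} (ht : TypeInv S₁ t) (hu : TypeInv S₂ u) :
    ∃ t' : G, TypeInv S₁ t' ∧ t' * u = u * t' ∧ ∃ o ∈ K (t' * u), t' = o * t * o⁻¹ := by
  set d := t * u with hd
  have htd : t * d * t⁻¹ = d⁻¹ := by
    rw [hd, mul_inv_rev, hu.inv_eq, ← mul_assoc, ht.sq, one_mul]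
  have hu' : u = d⁻¹ * t := by
    rw [hd, mul_inv_rev, mul_assoc, inv_mul_cancel, mul_one, hu.inv_eq]
  rcases Nat.even_or_odd' (orderOf d) with ⟨k, hk | hk⟩
  swap
  · exfalso
    have e : d ^ (2 * k) * t = u := by
      rw [hu']; congr 1
      refine eq_inv_of_mul_eq_one_left ?_
      rw [← pow_succ, ← hk, pow_orderOf_eq_one]
    exact h.not_both (e ▸ dihedral_conj htd k ▸ ht.conj (d ^ k)) hu
  have hk0 : 0 < k := by
    have := orderOf_pos d
    omega
  set z := d ^ k with hz
  have hz2 : orderOf z = 2 := by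
    rw [hz, orderOf_pow, hk, Nat.gcd_mul_left_left]
    exact Nat.mul_div_cancel _ hk0
  have hzz : z * z = 1 := by
    have := pow_orderOf_eq_one z
    rwa [hz2, pow_two] at this
  have hzi : z⁻¹ = z := inv_eq_of_mul_eq_one_left hzz
  have hzt : t * z = z * t := by
    have : t * z * t⁻¹ = z := by rw [hz, ← conj_pow, htd, inv_pow, ← hz, hzi]
    rwa [mul_inv_eq_iff_eq_mul] at this
  have hzd : d * z = z * d := ((Commute.refl d).pow_right k).eq
  have hzu : u * z = z * u := by
    rw [hu']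
    exact ((show Commute d z from hzd).inv_left.mul_left hzt).eq
  have hzt' : centralizer ({z} : Set G) ≠ ⊤ := by
    intro e
    have hzc : z ∈ center G :=
      mem_center_iff.2 fun g => mem_centralizer_singleton_iff.1 (e ▸ mem_top g)
    rcases Nat.even_or_odd' k with ⟨m, hm | hm⟩
    · refine h.not_type_mul_central hz2 hzc ht ?_
      rw [hz, hm, ← dihedral_conj htd m]
      exact ht.conj _
    · have e' : z * u = d ^ (2 * m) * t := by
        rw [hz, hu', hm, pow_succ, mul_assoc, mul_inv_cancel_left]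
      have hty : TypeInv S₁ (z * u) := by
        rw [e', ← dihedral_conj htd m]
        exact ht.conj _
      refine h.pair_noncentral hty hu ?_ ?_
      · rw [← mul_assoc u z u, hzu, mul_assoc]
      · rwa [mul_assoc, hu.sq, mul_one]
  obtain ⟨J₁, J₂, -, -, hm₁, hm₂, hJ⟩ := h.exists_closures hzt'
  have hd2 : d ^ 2 ∈ K z := by
    have hm : ⁅t, u⁆ ∈ K z := mem_map_of_mem (centralizer ({z} : Set G)).subtype
      (hJ (commutator_mem_commutator (hm₁ ⟨t, mem_centralizer_singleton_iff.2 hzt⟩ ht)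
        (hm₂ ⟨u, mem_centralizer_singleton_iff.2 hzu⟩ hu)))
    rwa [commutatorElement_def, ht.inv_eq, hu.inv_eq, mul_assoc (t * u), ← hd, ← pow_two] at hm
  have hkodd : Odd k := by
    have h1 := (odd_K z).of_dvd_nat (Subgroup.orderOf_dvd_natCard _ hd2)
    rw [orderOf_pow, hk, Nat.gcd_mul_right_left, Nat.mul_div_cancel_left _ two_pos] at h1
    exact h1
  obtain ⟨m, hm⟩ := hkodd
  have e' : z * u = d ^ (2 * m) * t := by
    rw [hz, hu', hm, pow_succ, mul_assoc, mul_inv_cancel_left]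
  have hty : TypeInv S₁ (z * u) := by
    rw [e', ← dihedral_conj htd m]
    exact ht.conj _
  have hzuu : z * u * u = z := by rw [mul_assoc, hu.sq, mul_one]
  refine ⟨z * u, hty, by rw [← mul_assoc u z u, hzu, mul_assoc], d ^ (2 * (m * (m + 1))), ?_, ?_⟩
  · rw [hzuu, pow_mul]
    exact pow_mem hd2 _
  · rw [e', dihedral_conj htd]
    congr 1
    rw [show 2 * (2 * (m * (m + 1))) = 2 * m + orderOf d * m by rw [hk, hm]; ring, pow_add,
      pow_mul d (orderOf d), pow_orderOf_eq_one, one_pow, mul_one]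

theorem reach_of_mem {t t' : G} (ht2 : orderOf t = 2) (ht : t ∈ S₁) (ht2' : orderOf t' = 2)
    (ht' : t' ∈ S₁) : Reach S₁ t t' := by
  obtain ⟨z, hz2, hzS, hzc⟩ := h.exists_central
  exact (Relation.ReflTransGen.single
    ⟨TypeInv.of_mem ht2 ht, TypeInv.of_mem hz2 hzS, hzc _ (h.sc₁.1 ht)⟩).trans
    (Relation.ReflTransGen.single
      ⟨TypeInv.of_mem hz2 hzS, TypeInv.of_mem ht2' ht', (hzc _ (h.sc₁.1 ht')).symm⟩)

/-- When the commuting graph of the first type is disconnected. -/
theorem commute_of_disconnected {x₀ t₀ : G} (hx₀ : TypeInv S₁ x₀) (ht₀ : TypeInv S₁ t₀)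
    (hno : ¬ Reach S₁ x₀ t₀) {t u : G} (ht : TypeInv S₁ t) (hu : TypeInv S₂ u) :
    t * u = u * t := by
  let H : Subgroup G :=
    { carrier := {g | Reach S₁ x₀ (g * x₀ * g⁻¹)}
      one_mem' := by
        show Reach S₁ x₀ (1 * x₀ * 1⁻¹)
        rw [inv_one, one_mul, mul_one]
        exact Relation.ReflTransGen.refl
      mul_mem' := fun {a b} ha hb => by
        have h1 := ha.trans (hb.conj a)
        rwa [show a * (b * x₀ * b⁻¹) * a⁻¹ = a * b * x₀ * (a * b)⁻¹ by group] at h1
      inv_mem' := fun {a} ha => by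
        have h1 := (ha.conj a⁻¹).symm
        rwa [conj_conj_inv] at h1 }
  have hH : H ≠ ⊤ := by
    intro e
    obtain ⟨a, ha⟩ := hx₀.2
    obtain ⟨b, hb⟩ := ht₀.2
    have h1 := (h.reach_of_mem (hx₀.conj a).1 ha (ht₀.conj b).1 hb).conj b⁻¹
    rw [conj_conj_inv b t₀,
      show b⁻¹ * (a * x₀ * a⁻¹) * b⁻¹⁻¹ = b⁻¹ * a * x₀ * (b⁻¹ * a)⁻¹ by group] at h1
    exact hno ((show b⁻¹ * a ∈ H from e ▸ mem_top _ : Reach S₁ x₀ _).trans h1)
  -- an element commuting with some `e` fixes the class of `e`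
  have stab : ∀ {e c : G}, c * e = e * c → Reach S₁ x₀ e → c ∈ H := by
    intro e c hc he
    have h1 : Reach S₁ (c * x₀ * c⁻¹) e := by
      simpa [hc] using he.conj c
    exact he.trans h1.symm
  have hall : ∀ v, TypeInv S₂ v → v ∈ H := by
    intro v hv
    obtain ⟨t', ht', hc, o, ho, hoe⟩ := h.dihedral hx₀ hv
    obtain ⟨A₁, A₂, h₁, h₂, hcc, hxA, hyA⟩ := h.exists_pair ht' hv hc
    haveI : IsMulCommutative A₁ := h₁.el.1
    let H' : Subgroup G :=
      { carrier := {g | Reach S₁ t' (g * t' * g⁻¹)}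
        one_mem' := by
          show Reach S₁ t' (1 * t' * 1⁻¹)
          rw [inv_one, one_mul, mul_one]
          exact Relation.ReflTransGen.refl
        mul_mem' := fun {a b} ha hb => by
          have h1 := ha.trans (hb.conj a)
          rwa [show a * (b * t' * b⁻¹) * a⁻¹ = a * b * t' * (a * b)⁻¹ by group] at h1
        inv_mem' := fun {a} ha => by
          have h1 := (ha.conj a⁻¹).symm
          rwa [conj_conj_inv] at h1 }
    have hcz : ∀ a ∈ A₁, a * (t' * v) = t' * v * a := fun a ha =>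
      ((show Commute a t' from h₁.comm ha hxA).mul_right (hcc a ha v hyA)).eq
    have hle : K (t' * v) ≤ H' := by
      rw [← Coprime.iSup_centralizer_eq h₁.not_isCyclic (K := K (t' * v)) (fun a ha =>
          Balance.centralizer_le_normalizer_centralizerPPrimeCore _
            (mem_centralizer_singleton_iff.2 (hcz a ha)))
        (FTDeps.Row1330.coprime_of_four (by rw [h₁.card]) (odd_K _))]
      refine iSup₂_le fun e he c hc' => ?_
      have hce : c * e = e * c := mem_centralizer_singleton_iff.1 hc'.2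
      have hr : Reach S₁ t' e :=
        Relation.ReflTransGen.single ⟨ht', h₁.type e he.1 he.2, h₁.comm hxA he.1⟩
      have h1 : Reach S₁ (c * t' * c⁻¹) e := by
        have := hr.conj c
        rwa [hce, mul_inv_cancel_right] at this
      exact hr.trans h1.symm
    have h2 : Reach S₁ t' x₀ := by
      have h3 : Reach S₁ t' (o⁻¹ * t' * o⁻¹⁻¹) := inv_mem (hle ho)
      rwa [hoe, conj_conj_inv, ← hoe] at h3
    exact stab hc.symm h2.symm
  have hle : closure {v : G | TypeInv S₂ v} ≤ H := (closure_le _).2 hall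
  haveI := closure_type_normal (G := G) S₂
  exact h.commute_of_proper (fun e => hH (top_le_iff.1 (e ▸ hle)))
    (fun v hv => subset_closure hv) ht hu

/-- Involutions of the two types commute. -/
theorem types_commute {t u : G} (ht : TypeInv S₁ t) (hu : TypeInv S₂ u) : t * u = u * t := by
  by_cases hconn : ∀ a b : G, TypeInv S₁ a → TypeInv S₁ b → Reach S₁ a b
  swap
  · push Not at hconn
    obtain ⟨a, b, ha, hb, hno⟩ := hconn
    exact h.commute_of_disconnected ha hb hno ht hu
  obtain ⟨t', ht', hc, o, ho, hoe⟩ := h.dihedral ht hu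
  obtain ⟨A₁, A₂, h₁, h₂, hcc, hxA, hyA⟩ := h.exists_pair ht' hu hc
  by_cases hW : W A₁ A₂ = ⊥
  swap
  · have hM : normalizer (W A₁ A₂ : Set G) ≠ ⊤ := by
      intro e
      haveI : (W A₁ A₂).Normal := Subgroup.normalizer_eq_top_iff.1 e
      exact hW (le_bot_iff.1 (h.hO ▸ Cores.le_pPrimeCore
        (Nat.coprime_two_right.2 (h.odd_W h₁ h₂ hcc))))
    have hall : ∀ x, TypeInv S₁ x → x ∈ normalizer (W A₁ A₂ : Set G) := by
      intro x hx
      have key : ∀ {x : G}, Reach S₁ t' x → TypeInv S₁ x →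
          ∃ C₁ C₂ : Subgroup G, IsFour S₁ C₁ ∧ IsFour S₂ C₂ ∧
            (∀ a ∈ C₁, ∀ b ∈ C₂, a * b = b * a) ∧ x ∈ C₁ ∧ W C₁ C₂ = W A₁ A₂ := by
        intro x hr _
        induction hr with
        | refl => exact ⟨A₁, A₂, h₁, h₂, hcc, hxA, rfl⟩
        | tail _ hstep ih =>
          obtain ⟨C₁, C₂, hC₁, hC₂, hCc, hbC, hWC⟩ := ih hstep.1
          obtain ⟨D₁, D₂, hD₁, hD₂, hDc, hxD, hWD⟩ :=
            h.move hC₁ hC₂ hCc hbC hstep.1.ne_one hstep.2.1 hstep.2.2
          exact ⟨D₁, D₂, hD₁, hD₂, hDc, hxD, hWD.trans hWC⟩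
      obtain ⟨C₁, C₂, hC₁, hC₂, hCc, hxC, hWC⟩ := key (hconn t' x ht' hx) hx
      rw [← hWC, mem_normalizer_iff_map_conj_eq]
      refine Subgroup.eq_of_le_of_card_ge ((map_W_le C₁ C₂ x).trans (le_of_eq ?_))
        (by rw [Subgroup.card_map_of_injective (MulAut.conj x).injective])
      have hfix : ∀ C : Subgroup G, (∀ c ∈ C, x * c = c * x) →
          C.map (MulAut.conj x).toMonoidHom = C := by
        intro C hC
        ext y
        refine ⟨?_, fun hy => ⟨y, hy, ?_⟩⟩
        · rintro ⟨c, hc', rfl⟩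
          show x * c * x⁻¹ ∈ C
          rwa [hC c hc', mul_inv_cancel_right]
        · show x * y * x⁻¹ = y
          rw [hC y hy, mul_inv_cancel_right]
      rw [hfix C₁ fun c hc' => hC₁.comm hxC hc', hfix C₂ fun c hc' => hCc x hxC c hc']
    have hle : closure {x : G | TypeInv S₁ x} ≤ normalizer (W A₁ A₂ : Set G) :=
      (closure_le _).2 hall
    haveI := closure_type_normal (G := G) S₁
    exact (h.symm.commute_of_proper (fun e => hM (top_le_iff.1 (e ▸ hle)))
      (fun x hx => subset_closure hx) hu ht).symm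
  -- now `t'` centralises `O(C(t' u))`
  have hyK : ∀ e ∈ A₁, e ≠ 1 → ∀ c ∈ K e, c * u = u * c := by
    intro e he he1 c hc'
    have hm : ⁅c, u⁆ ∈ W A₁ A₂ := h.comm_le_W h₁ h₂ hcc he he1 (commutator_mem_commutator hc' hyA)
    rw [hW, mem_bot, commutatorElement_eq_one_iff_mul_comm] at hm
    exact hm
  haveI : IsMulCommutative A₁ := h₁.el.1
  have hcz : ∀ a ∈ A₁, a * (t' * u) = t' * u * a := fun a ha =>
    ((show Commute a t' from h₁.comm ha hxA).mul_right (hcc a ha u hyA)).eq
  have hfix : K (t' * u) ≤ centralizer ({t'} : Set G) := by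
    rw [← Coprime.iSup_centralizer_eq h₁.not_isCyclic (K := K (t' * u)) (fun a ha =>
        Balance.centralizer_le_normalizer_centralizerPPrimeCore _
          (mem_centralizer_singleton_iff.2 (hcz a ha)))
      (FTDeps.Row1330.coprime_of_four (by rw [h₁.card]) (odd_K _))]
    refine iSup₂_le fun e he d hd => ?_
    have hde : d * e = e * d := mem_centralizer_singleton_iff.1 hd.2
    have hte : t' * e = e * t' := h₁.comm hxA he.1
    have hce := h.comm_mem_prod ht' hu (h.centralizer_ne_top (h₁.type e he.1 he.2)) hte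
      (hcc e he.1 u hyA).symm hc hd.1 hde
    set c := ⁅d, t'⁆ with hcdef
    have hcz' : c * (t' * u) = t' * u * c :=
      commute_K (commutator_mem_K (a := t' * u) (hcz t' hxA) hd.1)
    have hcu : c * u = u * c := hyK e he.1 he.2 c hce
    have hct : c * t' = t' * c := by
      have h1 : Commute c (t' * u * u) :=
        (show Commute c (t' * u) from hcz').mul_right hcu
      rwa [mul_assoc, hu.sq, mul_one] at h1
    have hinv : c⁻¹ = c := by
      have h1 : t' * c * t'⁻¹ = c⁻¹ := by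
        rw [hcdef, commutatorElement_def, ht'.inv_eq]
        have e1 : t'⁻¹ = t' := ht'.inv_eq
        rw [show (d * t' * d⁻¹ * t')⁻¹ = t'⁻¹ * d * t'⁻¹ * d⁻¹ by group, e1,
          mul_assoc, mul_assoc, mul_assoc, ht'.sq, mul_one]
        simp only [mul_assoc]
      rwa [← hct, mul_inv_cancel_right, eq_comm] at h1
    have hc1 : c = 1 := by
      have h2 : orderOf c ∣ 2 := orderOf_dvd_of_pow_eq_one (by
        rw [pow_two]; nth_rewrite 1 [← hinv]; exact inv_mul_cancel c)
      have hodd : Odd (orderOf c) := (odd_K e).of_dvd_nat (Subgroup.orderOf_dvd_natCard _ hce)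
      rcases (Nat.dvd_prime Nat.prime_two).1 h2 with h3 | h3
      · exact orderOf_eq_one_iff.1 h3
      · rw [h3] at hodd; exact absurd hodd (by decide)
    rw [mem_centralizer_singleton_iff]
    exact commutatorElement_eq_one_iff_mul_comm.1 hc1
  have hot : o * t' = t' * o := mem_centralizer_singleton_iff.1 (hfix ho)
  have : t = t' := by
    calc t = o⁻¹ * (o * t * o⁻¹) * o := by group
      _ = o⁻¹ * t' * o := by rw [← hoe]
      _ = t' := by rw [mul_assoc, ← hot, inv_mul_cancel_left]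
  rw [this]; exact hc

/-- The normal closures commute. -/
theorem commute_closures : ⁅normalClosure (S₁ : Set G), normalClosure (S₂ : Set G)⁆ = ⊥ := by
  set M := closure {u : G | TypeInv S₂ u} with hMdef
  haveI hMn : M.Normal := closure_type_normal S₂
  have hMtop : M ≠ ⊤ := by
    intro e
    obtain ⟨z, hz2, hzS, -⟩ := h.exists_central
    refine h.type_noncentral (TypeInv.of_mem hz2 hzS) (mem_center_iff.2 fun g => ?_)
    have hle : M ≤ centralizer ({z} : Set G) := (closure_le _).2 fun u hu =>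
      mem_centralizer_singleton_iff.2 (h.types_commute (TypeInv.of_mem hz2 hzS) hu).symm
    exact mem_centralizer_singleton_iff.1 (hle (e ▸ mem_top g))
  have h1 : S₁ ≤ centralizer (M : Set G) := h.le_centralizer_of_proper hMtop rfl
  set C := centralizer (M : Set G) with hC
  haveI hCn : C.Normal := inferInstance
  have hdisj : S₂ ⊓ C = ⊥ := by
    by_contra hne
    obtain ⟨v, hv, hv2⟩ := h.symm.exists_inv_of_ne_bot hne
    have hvM : v ∈ M := subset_closure (TypeInv.of_mem hv2 hv.1)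
    exact h.symm.no_central hv.1 hv2 hvM fun m hm => mem_centralizer_iff.1 hv.2 m hm
  have h2 : S₂ ≤ centralizer (C : Set G) :=
    ZStar.StronglyClosed.le_centralizer P S₂ h.sc₂ C
      (by rw [Subgroup.normalizer_eq_top]; exact le_top) (pPrimeCore_normal_eq_bot h.hO C) hdisj
  rw [commutator_eq_bot_iff_le_centralizer]
  exact (normalClosure_le_normal h1).trans
    (le_centralizer_iff.1 (normalClosure_le_normal (N := centralizer (C : Set G)) h2))

end Ctx

theorem Setup.map {P : Sylow 2 G} {S₁ S₂ : Subgroup G} (h : Setup P S₁ S₂) (N : Subgroup G)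
    [N.Normal] (hN : ∀ a ∈ S₁, ∀ b ∈ S₂, a⁻¹ * b ∈ N → a ∈ N) :
    Setup (P.mapSurjective (QuotientGroup.mk'_surjective N)) (S₁.map (QuotientGroup.mk' N))
      (S₂.map (QuotientGroup.mk' N)) := by
  haveI : Fact (Nat.Prime 2) := ⟨Nat.prime_two⟩
  refine ⟨?_, ?_, ?_, ?_⟩
  · rw [Sylow.coe_mapSurjective]; exact Cfsg.Agent.S1250.result P S₁ h.sc₁ N
  · rw [Sylow.coe_mapSurjective]; exact Cfsg.Agent.S1250.result P S₂ h.sc₂ N
  · rintro _ ⟨a, ha, rfl⟩ _ ⟨b, hb, rfl⟩
    rw [← map_mul, h.comm a ha b hb, map_mul]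
  · rw [eq_bot_iff]
    rintro _ ⟨⟨a, ha, rfl⟩, ⟨b, hb, hab⟩⟩
    exact mem_bot.2 ((QuotientGroup.eq_one_iff a).2
      (hN a ha b hb (QuotientGroup.eq.1 hab.symm)))

/-- A quotient by a normal subgroup inside `S₂`. -/
theorem reduce_of_le {P : Sylow 2 G} {S₁ S₂ : Subgroup G} (h : Setup P S₁ S₂)
    (hO : pPrimeCore 2 G = ⊥) (X : Subgroup G) [X.Normal] (hX : X ≤ S₂)
    (hq : Comm (G ⧸ X)) : ⁅normalClosure (S₁ : Set G), normalClosure (S₂ : Set G)⁆ = ⊥ := by
  haveI : Fact (Nat.Prime 2) := ⟨Nat.prime_two⟩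
  set π := QuotientGroup.mk' X with hπ
  set N₁ := normalClosure (S₁ : Set G) with hN₁
  set N₂ := normalClosure (S₂ : Set G) with hN₂
  have hset := h.map X fun a ha b hb hab => by
    have haS : a ∈ S₂ := by
      have := mul_mem hb (inv_mem (hX hab))
      rwa [mul_inv_rev, inv_inv, mul_inv_cancel_left] at this
    have : a ∈ S₁ ⊓ S₂ := ⟨ha, haS⟩
    rw [h.disj, mem_bot] at this
    rw [this]; exact one_mem X
  set Y := (pPrimeCore 2 (G ⧸ X)).comap π ⊓ centralizer (X : Set G) with hY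
  have hN₁X : N₁ ≤ centralizer (X : Set G) := normalClosure_le_normal fun a ha =>
    mem_centralizer_iff.2 fun x hx => (h.comm a ha x (hX hx)).symm
  have hle : ⁅N₁, N₂⁆ ≤ Y := by
    refine le_inf ?_ ((commutator_le_left N₁ N₂).trans hN₁X)
    rw [← map_le_iff_le_comap, map_commutator]
    refine le_trans (le_of_eq ?_) (hq _ _ _ hset)
    rw [hN₁, hN₂, map_normalClosure _ _ (QuotientGroup.mk'_surjective X),
      map_normalClosure _ _ (QuotientGroup.mk'_surjective X)]
    rfl
  -- the odd elements of `Y` form a normal subgroup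
  have hYX : Y ≤ X := by
    set Z := (X ⊓ centralizer (X : Set G)).subgroupOf Y with hZ
    have hXY : X ⊓ centralizer (X : Set G) ≤ Y := le_inf (fun x hx => by
      show π x ∈ pPrimeCore 2 (G ⧸ X)
      rw [show π x = 1 from (QuotientGroup.eq_one_iff x).2 hx.1]
      exact one_mem _) inf_le_right
    have hZc : Z ≤ center ↥Y := fun x hx => mem_center_iff.2 fun y => Subtype.ext
      ((mem_centralizer_iff.1 y.2.2 _ hx.1).symm)
    haveI : Z.Normal := ⟨fun x hx y => by
      rwa [mem_center_iff.1 (hZc hx) y, mul_inv_cancel_right]⟩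
    have hker : Z = (π.comp Y.subtype).ker := by
      ext y
      rw [MonoidHom.mem_ker]
      exact ⟨fun hy => (QuotientGroup.eq_one_iff (y : G)).2 hy.1,
        fun hy => ⟨(QuotientGroup.eq_one_iff (y : G)).1 hy, y.2.2⟩⟩
    have hidx : Odd Z.index := by
      rw [hker, Subgroup.index_ker]
      refine (Nat.coprime_two_right.1 (Cores.pPrimeCore_coprime (G := G ⧸ X) 2)).of_dvd_nat
        (card_dvd_of_le ?_)
      rintro _ ⟨y, rfl⟩
      exact y.2.1
    have hZ2 : IsPGroup 2 ↥Z := by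
      refine ((P.2.to_le (hX.trans h.sc₂.1)).to_le (inf_le_left :
        X ⊓ centralizer (X : Set G) ≤ X)).of_equiv ?_
      exact (Subgroup.subgroupOfEquivOfLe hXY).symm
    obtain ⟨j, hj⟩ := IsPGroup.iff_card.1 hZ2
    have hcop : (Nat.card Z).Coprime Z.index := by
      rw [hj]; exact Nat.Coprime.pow_left _ (Nat.coprime_two_left.2 hidx)
    obtain ⟨L, hL⟩ := Subgroup.exists_right_complement'_of_coprime hcop
    have hLodd : Odd (Nat.card L) := by
      have := hL.symm.index_eq_card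
      rw [← this] ; exact hidx
    have hLn : ∀ y : ↥Y, Odd (orderOf y) ↔ y ∈ L := by
      intro y
      refine ⟨fun hy => ?_, fun hy => hLodd.of_dvd_nat (Subgroup.orderOf_dvd_natCard _ hy)⟩
      obtain ⟨⟨⟨z, hz⟩, ⟨l, hl⟩⟩, he : z * l = y⟩ := hL.surjective y
      have hc : Commute y l⁻¹ := by
        refine Commute.inv_right ?_
        rw [← he]
        exact Commute.mul_left (show Commute z l from (mem_center_iff.1 (hZc hz) l).symm)
          (Commute.refl l)
      have hzo : Odd (orderOf z) := by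
        refine (hy.mul (hLodd.of_dvd_nat
          (Subgroup.orderOf_dvd_natCard _ (inv_mem hl)))).of_dvd_nat ?_
        conv_lhs => rw [show z = y * l⁻¹ by rw [← he, mul_inv_cancel_right]]
        exact hc.orderOf_mul_dvd_mul_orderOf
      have hz1 : z = 1 := by
        obtain ⟨i, hi⟩ := (Nat.dvd_prime_pow Nat.prime_two).1
          (hj ▸ Subgroup.orderOf_dvd_natCard _ hz)
        rcases Nat.eq_zero_or_pos i with hi0 | hi0
        · exact orderOf_eq_one_iff.1 (by rw [hi.2, hi0, pow_zero])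
        · rw [hi.2] at hzo
          exact absurd hzo (Nat.not_odd_iff_even.2 (Nat.even_pow.2 ⟨even_two, by omega⟩))
      rw [← he, hz1, one_mul]; exact hl
    have hLG : (L.map Y.subtype).Normal := by
      haveI : Y.Normal := inferInstance
      refine ⟨?_⟩
      rintro _ ⟨l, hl, rfl⟩ g
      refine ⟨⟨g * l * g⁻¹, Subgroup.Normal.conj_mem inferInstance _ l.2 g⟩, (hLn _).1 ?_, rfl⟩
      rw [← Subgroup.orderOf_coe, show ((⟨g * l * g⁻¹, _⟩ : ↥Y) : G) = g * l * g⁻¹ from rfl,
        show g * (l : G) * g⁻¹ = (MulAut.conj g).toMonoidHom (l : G) from rfl,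
        orderOf_injective _ (MulAut.conj g).injective, Subgroup.orderOf_coe]
      exact (hLn l).2 hl
    have hLb : L.map Y.subtype = ⊥ := le_bot_iff.1 (hO ▸ Cores.le_pPrimeCore
      (Nat.coprime_two_right.2 (hLodd.of_dvd_nat (Subgroup.card_map_dvd _ _))))
    rw [Subgroup.map_eq_bot_iff_of_injective _ Y.subtype_injective] at hLb
    intro y hy
    obtain ⟨⟨⟨z, hz⟩, ⟨l, hl⟩⟩, he : z * l = (⟨y, hy⟩ : ↥Y)⟩ := hL.surjective ⟨y, hy⟩
    have hl1 : l = 1 := by rw [hLb] at hl; exact hl
    rw [hl1, mul_one] at he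
    rw [show y = ((z : ↥Y) : G) from (congrArg Subtype.val he).symm]
    exact hz.1
  -- `N₁` centralises `S₂`
  have hcent : S₂ ≤ centralizer (N₁ : Set G) := by
    intro n hn
    have hmul : ∀ a ∈ N₁, ∀ b ∈ N₁, ⁅a * b, n⁆ = ⁅b, n⁆ * ⁅a, n⁆ := by
      intro a ha b hb
      have hbn : ⁅b, n⁆ ∈ X := hYX (hle (commutator_mem_commutator hb (subset_normalClosure hn)))
      have hc : a * ⁅b, n⁆ * a⁻¹ = ⁅b, n⁆ := by
        rw [← mem_centralizer_iff.1 (hN₁X ha) _ hbn, mul_inv_cancel_right]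
      calc ⁅a * b, n⁆ = a * ⁅b, n⁆ * a⁻¹ * ⁅a, n⁆ := by
            simp only [commutatorElement_def]; group
        _ = ⁅b, n⁆ * ⁅a, n⁆ := by rw [hc]
    have hconj : ∀ m ∈ N₁, ∀ s ∈ N₁, ⁅s, n⁆ = 1 → ⁅m * s * m⁻¹, n⁆ = 1 := by
      intro m hm s hs hs1
      rw [hmul _ (mul_mem hm hs) _ (inv_mem hm), hmul m hm s hs, hs1, one_mul,
        ← hmul m hm _ (inv_mem hm), mul_inv_cancel, commutatorElement_one_left]
    haveI : N₁.Normal := normalClosure_normal
    let C : Subgroup G := N₁ ⊓ centralizer ({n} : Set G)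
    have hall : Group.conjugatesOfSet (S₁ : Set G) ⊆ C := by
      intro x hx
      obtain ⟨s, hs, hxs⟩ := Group.mem_conjugatesOfSet_iff.1 hx
      obtain ⟨g, rfl⟩ := isConj_iff.1 hxs
      have hQp : IsPGroup 2 ↥((P : Subgroup G).subgroupOf N₁) :=
        P.2.comap_of_injective _ N₁.subtype_injective
      obtain ⟨Q, hQ⟩ := hQp.exists_le_sylow
      have hQe : (Q : Subgroup ↥N₁).map N₁.subtype = (P : Subgroup G) ⊓ N₁ := by
        obtain ⟨k, hk⟩ := exists_conj_le P (Q.2.map N₁.subtype)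
        refine (Subgroup.eq_of_le_of_card_ge ?_ ?_).symm
        · exact fun y hy => ⟨⟨y, hy.2⟩, hQ hy.1, rfl⟩
        · rw [← Subgroup.card_map_of_injective (f := (MulAut.conj k).toMonoidHom)
            (K := (Q : Subgroup ↥N₁).map N₁.subtype) (MulAut.conj k).injective]
          refine Nat.le_of_dvd Nat.card_pos (card_dvd_of_le ?_)
          rintro _ ⟨y, hy, rfl⟩
          obtain ⟨y', hy', rfl⟩ := hy
          exact ⟨hk _ ⟨y', hy', rfl⟩, Subgroup.Normal.conj_mem inferInstance _ y'.2 k⟩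
      have hg : g ∈ normalizer (((P : Subgroup G) ⊓ N₁ : Subgroup G) : Set G) ⊔ N₁ := by
        rw [← hQe, Q.normalizer_sup_eq_top]; exact mem_top g
      rw [sup_comm, mem_sup_of_normal_left] at hg
      obtain ⟨m, hm, b, hb, rfl⟩ := hg
      have hsN : s ∈ N₁ := subset_normalClosure hs
      have hb1 : b * s * b⁻¹ ∈ (P : Subgroup G) ⊓ N₁ :=
        (mem_normalizer_iff.1 hb s).1 ⟨h.sc₁.1 hs, hsN⟩
      have hbs : b * s * b⁻¹ ∈ S₁ := h.sc₁.2 s hs b hb1.1
      have h1 : ⁅b * s * b⁻¹, n⁆ = 1 :=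
        commutatorElement_eq_one_iff_mul_comm.2 (h.comm _ hbs n hn)
      have h2 := hconj m hm _ hb1.2 h1
      rw [show m * b * s * (m * b)⁻¹ = m * (b * s * b⁻¹) * m⁻¹ by group]
      exact ⟨Subgroup.Normal.conj_mem inferInstance _ hb1.2 m,
        mem_centralizer_singleton_iff.2 (commutatorElement_eq_one_iff_mul_comm.1 h2)⟩
    have hle' : N₁ ≤ C := (closure_le C).2 hall
    exact mem_centralizer_iff.2 fun m hm => mem_centralizer_singleton_iff.1 (hle' hm).2
  haveI : (centralizer (N₁ : Set G)).Normal := by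
    haveI : N₁.Normal := normalClosure_normal
    infer_instance
  rw [commutator_eq_bot_iff_le_centralizer, le_centralizer_iff]
  exact normalClosure_le_normal hcent

/-- **Product fusion.** Commuting strongly closed 2-subgroups which meet trivially have normal
closures commuting modulo the core. -/
theorem comm_of_card : ∀ (n : ℕ) (G : Type u) [Group G] [Finite G], Nat.card G = n → Comm G := by
  intro n
  induction n using Nat.strong_induction_on with
  | _ n ih =>
    intro G _ _ hn P S₁ S₂ h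
    subst hn
    haveI : Fact (Nat.Prime 2) := ⟨Nat.prime_two⟩
    have hquot : ∀ (N : Subgroup G) [N.Normal], N ≠ ⊥ → Comm (G ⧸ N) := by
      intro N _ hN
      refine ih _ ?_ _ rfl
      rw [Subgroup.card_eq_card_quotient_mul_card_subgroup N]
      exact lt_mul_of_one_lt_right Nat.card_pos ((Subgroup.one_lt_card_iff_ne_bot N).2 hN)
    by_cases hO : pPrimeCore 2 G = ⊥
    swap
    · have hset := h.map (pPrimeCore 2 G) fun a ha b hb hab => by
        have hP : a⁻¹ * b ∈ (P : Subgroup G) := mul_mem (inv_mem (h.sc₁.1 ha)) (h.sc₂.1 hb)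
        obtain ⟨k, hk⟩ := IsPGroup.iff_card.1 P.2
        have hco : (Nat.card (P : Subgroup G)).Coprime (Nat.card ↥(pPrimeCore 2 G)) := by
          rw [hk]; exact Nat.Coprime.pow_left _ (Cores.pPrimeCore_coprime 2).symm
        have h1 : a⁻¹ * b = 1 :=
          Subgroup.disjoint_def.1 (disjoint_of_coprime_natCard hco) hP hab
        have h2 : a ∈ S₁ ⊓ S₂ := ⟨ha, inv_mul_eq_one.1 h1 ▸ hb⟩
        rw [h.disj, mem_bot] at h2
        rw [h2]; exact one_mem _
      have h1 := hquot _ hO _ _ _ hset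
      rw [Cores.pPrimeCore_quotient_pPrimeCore] at h1
      simp only [Subgroup.coe_map] at h1
      rw [← map_normalClosure _ _ (QuotientGroup.mk'_surjective _),
        ← map_normalClosure _ _ (QuotientGroup.mk'_surjective _), ← map_commutator,
        le_bot_iff, Subgroup.map_eq_bot_iff, QuotientGroup.ker_mk'] at h1
      exact h1
    have triv : ∀ {A : Subgroup G}, A = ⊥ → normalClosure (A : Set G) = ⊥ := fun {A} hA =>
      le_bot_iff.1 (normalClosure_le_normal (by rw [hA]))
    by_cases h1 : S₁ = ⊥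
    · rw [triv h1, commutator_bot_left]; exact bot_le
    by_cases h2 : S₂ = ⊥
    · rw [triv h2, commutator_bot_right]; exact bot_le
    by_cases hno₂ : ∀ X : Subgroup G, X.Normal → X ≤ S₂ → X = ⊥
    swap
    · push Not at hno₂
      obtain ⟨X, hXn, hX, hX1⟩ := hno₂
      rw [reduce_of_le h hO X hX (hquot X hX1)]; exact bot_le
    by_cases hno₁ : ∀ X : Subgroup G, X.Normal → X ≤ S₁ → X = ⊥
    swap
    · push Not at hno₁
      obtain ⟨X, hXn, hX, hX1⟩ := hno₁
      rw [commutator_comm, reduce_of_le h.symm hO X hX (hquot X hX1)]; exact bot_le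
    have hC : Ctx P S₁ S₂ := ⟨h, hO, fun H _ _ hlt => ih _ hlt H rfl, hno₁, hno₂, h1, h2⟩
    rw [hC.commute_closures]; exact bot_le

/-- Product fusion for a group without odd normal subgroups. -/
theorem commutator_normalClosure_eq_bot {G : Type u} [Group G] [Finite G]
    (hO : pPrimeCore 2 G = ⊥) {P : Sylow 2 G} {S₁ S₂ : Subgroup G} (h : Setup P S₁ S₂) :
    ⁅normalClosure (S₁ : Set G), normalClosure (S₂ : Set G)⁆ = ⊥ :=
  le_bot_iff.1 (hO ▸ comm_of_card _ G rfl P S₁ S₂ h)

end Cfsg.Agent.Lib.ProductFusion
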