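import Mathlib
import Cfsg.Agent.Lib.ProductFusion.Main

/-!
# The case of a Sylow 2-subgroup which is the product of the two strongly closed subgroups

Owner: helper78.
-/

set_option autoImplicit false
set_option linter.style.haveILetI false

open Cfsg Subgroup
open scoped commutatorElement

namespace Cfsg.Agent.Lib.ProductFusion

universe u

variable {G : Type u} [Group G] [Finite G]

/-- The intersection of a Sylow subgroup with a normal subgroup is a Sylow subgroup of it. -/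
theorem exists_sylow_of_normal (P : Sylow 2 G) (N : Subgroup G) [N.Normal] :
    ∃ Q : Sylow 2 ↥N, (Q : Subgroup ↥N) = (P : Subgroup G).subgroupOf N := by
  haveI : Fact (Nat.Prime 2) := ⟨Nat.prime_two⟩
  have hQp : IsPGroup 2 ↥((P : Subgroup G).subgroupOf N) :=
    P.2.comap_of_injective _ N.subtype_injective
  obtain ⟨Q, hQ⟩ := hQp.exists_le_sylow
  refine ⟨Q, (Subgroup.eq_of_le_of_card_ge hQ ?_).symm⟩
  obtain ⟨k, hk⟩ := exists_conj_le P (Q.2.map N.subtype)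
  let f : ↥(Q : Subgroup ↥N) → ↥((P : Subgroup G).subgroupOf N) := fun q =>
    ⟨⟨k * ((q : ↥N) : G) * k⁻¹, Subgroup.Normal.conj_mem inferInstance _ (q : ↥N).2 k⟩,
      hk _ ⟨_, q.2, rfl⟩⟩
  refine Nat.card_le_card_of_injective f fun a b hab => ?_
  have := congrArg (fun z => (((z : ↥((P : Subgroup G).subgroupOf N)) : ↥N) : G)) hab
  exact Subtype.ext (Subtype.ext ((MulAut.conj k).injective this))

theorem inf_normalClosure_eq {P : Sylow 2 G} {S₁ S₂ : Subgroup G}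
    (h : Setup P S₁ S₂) (hO : pPrimeCore 2 G = ⊥) (hP : S₁ ⊔ S₂ = (P : Subgroup G)) :
    (P : Subgroup G) ⊓ normalClosure (S₁ : Set G) = S₁ := by
  classical
  haveI : Fact (Nat.Prime 2) := ⟨Nat.prime_two⟩
  set N := normalClosure (S₁ : Set G) with hN
  haveI : N.Normal := normalClosure_normal
  have hcc : ∀ a ∈ N, ∀ b ∈ normalClosure (S₂ : Set G), a * b = b * a := fun a ha b hb =>
    commutatorElement_eq_one_iff_mul_comm.1 (mem_bot.1
      (commutator_normalClosure_eq_bot hO h ▸ commutator_mem_commutator ha hb))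
  refine le_antisymm ?_ (le_inf h.sc₁.1 subset_normalClosure)
  have hS₁n : S₂ ≤ normalizer (S₁ : Set G) := fun b hb =>
    centralizer_le_normalizer _ (mem_centralizer_iff.2 fun a ha => h.comm a ha b hb)
  have hsplit : ∀ x ∈ (P : Subgroup G) ⊓ N, ∃ a ∈ S₁, ∃ b ∈ S₂ ⊓ N, x = a * b := by
    intro x hx
    obtain ⟨a, ha, b, hb, rfl⟩ :=
      FTDeps.Row1330.mem_sup_iff_of_normalizes hS₁n (hP ▸ hx.1 : x ∈ S₁ ⊔ S₂)
    refine ⟨a, ha, b, ⟨hb, ?_⟩, rfl⟩
    have := mul_mem (inv_mem (subset_normalClosure ha : a ∈ N)) hx.2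
    rwa [inv_mul_cancel_left] at this
  have hcen : ∀ b ∈ S₂ ⊓ N, ∀ a ∈ N, a * b = b * a := fun b hb a ha =>
    hcc a ha b (subset_normalClosure hb.1)
  set C : Subgroup ↥N := S₂.subgroupOf N with hC
  letI : CommGroup ↥C :=
    { (inferInstance : Group ↥C) with
      mul_comm := fun a b => Subtype.ext (Subtype.ext
        (hcen _ ⟨b.2, (b : ↥N).2⟩ _ (a : ↥N).2)) }
  set Q : Subgroup ↥N := (P : Subgroup G).subgroupOf N with hQ
  have huniq : ∀ a ∈ S₁, ∀ a' ∈ S₁, ∀ b ∈ S₂, ∀ b' ∈ S₂, a * b = a' * b' → b = b' := by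
    intro a ha a' ha' b hb b' hb' e
    have hm : a'⁻¹ * a ∈ S₁ ⊓ S₂ := by
      refine mem_inf.2 ⟨mul_mem (inv_mem ha') ha, ?_⟩
      rw [show a'⁻¹ * a = b' * b⁻¹ by
        rw [inv_mul_eq_iff_eq_mul, ← mul_assoc, ← e, mul_inv_cancel_right]]
      exact mul_mem hb' (inv_mem hb)
    rw [h.disj, mem_bot, inv_mul_eq_one] at hm
    rw [hm] at e
    exact mul_left_cancel e
  have hex : ∀ q : ↥Q, ∃ c : ↥C, ∃ a ∈ S₁, ((q : ↥N) : G) = a * ((c : ↥N) : G) := fun q => by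
    obtain ⟨a, ha, b, hb, e⟩ := hsplit _ ⟨q.2, (q : ↥N).2⟩
    exact ⟨⟨⟨b, hb.2⟩, hb.1⟩, a, ha, e⟩
  choose f a ha hfa using hex
  let φ : ↥Q →* ↥C := MonoidHom.mk' f fun q q' => by
    refine Subtype.ext (Subtype.ext ?_)
    refine huniq _ (ha (q * q')) (a q * a q') (mul_mem (ha q) (ha q')) _ (f (q * q')).2 _
      (mul_mem (f q).2 (f q').2) ?_
    refine (hfa (q * q')).symm.trans ?_
    show ((q : ↥N) : G) * ((q' : ↥N) : G) =
      a q * a q' * (((f q : ↥N) : G) * ((f q' : ↥N) : G))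
    rw [hfa q, hfa q', mul_assoc, ← mul_assoc ((f q : ↥N) : G),
      show ((f q : ↥N) : G) * a q' = a q' * ((f q : ↥N) : G) from
        (h.comm _ (ha q') _ (f q).2).symm]
    simp only [mul_assoc]
  have hφ : ∀ q : ↥Q, ((q : ↥N) : G) ∈ S₁ → φ q = 1 := fun q hq => by
    refine Subtype.ext (Subtype.ext ?_)
    exact huniq _ (ha q) _ hq _ (f q).2 _ (one_mem _) ((hfa q).symm.trans (mul_one _).symm)
  have hφC : ∀ q : ↥Q, ((q : ↥N) : G) ∈ S₂ → ((φ q : ↥N) : G) = ((q : ↥N) : G) := fun q hq =>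
    huniq _ (ha q) _ (one_mem _) _ (f q).2 _ hq ((hfa q).symm.trans (one_mul _).symm)
  -- the transfer kills `N`
  have hker : ∀ x : ↥N, MonoidHom.transfer φ x = 1 := by
    have hgen : ∀ x (hx : x ∈ N), MonoidHom.transfer φ ⟨x, hx⟩ = 1 := by
      intro x hx
      induction hx using closure_induction with
      | mem y hy =>
        have hyN : y ∈ N := Subgroup.subset_closure hy
        obtain ⟨s, hs, hc⟩ := Group.mem_conjugatesOfSet_iff.1 hy
        obtain ⟨g, rfl⟩ := isConj_iff.1 hc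
        letI : Fintype (Quotient (MulAction.orbitRel (zpowers (⟨g * s * g⁻¹, hyN⟩ : ↥N)) (↥N ⧸ Q))) :=
          Fintype.ofFinite _
        rw [MonoidHom.transfer_eq_prod_quotient_orbitRel_zpowers_quot]
        refine Finset.prod_eq_one fun q _ => hφ _ ?_
        have hPm : ((q.out.out⁻¹ : ↥N) : G) * (g * s * g⁻¹) ^ Function.minimalPeriod
            ((⟨g * s * g⁻¹, hyN⟩ : ↥N) • ·) q.out * ((q.out.out : ↥N) : G) ∈ (P : Subgroup G) :=
          QuotientGroup.out_conj_pow_minimalPeriod_mem Q _ q.out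
        show ((q.out.out⁻¹ : ↥N) : G) * (g * s * g⁻¹) ^ _ * ((q.out.out : ↥N) : G) ∈ S₁
        rw [conj_pow] at hPm ⊢
        rw [show ∀ w : G, ((q.out.out⁻¹ : ↥N) : G) * (g * w * g⁻¹) * ((q.out.out : ↥N) : G) =
          ((q.out.out : ↥N) : G)⁻¹ * g * w * (((q.out.out : ↥N) : G)⁻¹ * g)⁻¹ from fun w => by
          rw [InvMemClass.coe_inv]; group] at hPm ⊢
        exact h.sc₁.2 _ (pow_mem hs _) _ hPm
      | one => exact map_one _
      | mul y z hy hz h1 h2 =>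
        rw [show (⟨y * z, _⟩ : ↥N) = ⟨y, hy⟩ * ⟨z, hz⟩ from rfl, map_mul, h1, h2, one_mul]
      | inv y hy h1 =>
        rw [show (⟨y⁻¹, _⟩ : ↥N) = (⟨y, hy⟩ : ↥N)⁻¹ from rfl, map_inv, h1, inv_one]
    exact fun x => hgen x x.2
  obtain ⟨Q', hQ'⟩ := exists_sylow_of_normal P N
  have hidx : ¬ 2 ∣ Q.index := by rw [hQ, ← hQ']; exact Q'.not_dvd_index
  intro x hx
  obtain ⟨u, hu, b, hb, rfl⟩ := hsplit x hx
  have hb1 : b = 1 := by
    set c : ↥N := ⟨b, hb.2⟩ with hc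
    have hkey : ∀ (k : ℕ) (g₀ : ↥N), g₀⁻¹ * c ^ k * g₀ ∈ Q → g₀⁻¹ * c ^ k * g₀ = c ^ k := by
      intro k g₀ _
      have hcm : Commute g₀ c := Subtype.ext (hcen b hb _ g₀.2)
      rw [mul_assoc, ← (hcm.pow_right k).eq, inv_mul_cancel_left]
    have h1 := MonoidHom.transfer_eq_pow φ c hkey
    rw [hker] at h1
    have h2 := congrArg (fun w : ↥C => ((w : ↥N) : G)) h1.symm
    rw [hφC _ (by show b ^ Q.index ∈ S₂; exact pow_mem hb.1 _)] at h2
    have h3 : b ^ Q.index = 1 := h2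
    obtain ⟨k, hk⟩ := (P.2.to_le h.sc₂.1) ⟨b, hb.1⟩
    have h4 : orderOf b ∣ 2 ^ k := orderOf_dvd_of_pow_eq_one (congrArg Subtype.val hk)
    refine orderOf_eq_one_iff.1 (Nat.eq_one_of_dvd_coprimes ?_ h4 (orderOf_dvd_of_pow_eq_one h3))
    exact Nat.Coprime.pow_left _ ((Nat.prime_two.coprime_iff_not_dvd).2 hidx)
  rw [hb1, mul_one]; exact hu

theorem direct_product {P : Sylow 2 G} {S₁ S₂ : Subgroup G} (h : Setup P S₁ S₂)
    (hO : pPrimeCore 2 G = ⊥) (hP : S₁ ⊔ S₂ = (P : Subgroup G))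
    (hO' : ∀ N : Subgroup G, N.Normal → Odd N.index → N = ⊤) :
    IsInternalDirectProduct (normalClosure (S₁ : Set G)) (normalClosure (S₂ : Set G)) ⊤ ∧
      Odd (S₁.relIndex (normalClosure (S₁ : Set G))) ∧
      Odd (S₂.relIndex (normalClosure (S₂ : Set G))) := by
  haveI : Fact (Nat.Prime 2) := ⟨Nat.prime_two⟩
  set N₁ := normalClosure (S₁ : Set G) with hN₁
  set N₂ := normalClosure (S₂ : Set G) with hN₂
  have hcc : ∀ a ∈ N₁, ∀ b ∈ N₂, a * b = b * a := fun a ha b hb =>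
    commutatorElement_eq_one_iff_mul_comm.1 (mem_bot.1
      (commutator_normalClosure_eq_bot hO h ▸ commutator_mem_commutator ha hb))
  have e₁ := inf_normalClosure_eq h hO hP
  have e₂ := inf_normalClosure_eq h.symm hO (sup_comm S₂ S₁ ▸ hP)
  haveI h1n : N₁.Normal := normalClosure_normal
  haveI h2n : N₂.Normal := normalClosure_normal
  have hdisj : N₁ ⊓ N₂ = ⊥ := by
    set D := N₁ ⊓ N₂ with hD
    have hDn : D.Normal := inferInstance
    have hab : ∀ x ∈ D, ∀ y ∈ D, x * y = y * x := fun x hx y hy => hcc x hx.1 y hy.2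
    have hD2 : IsPGroup 2 ↥D := fun x => by
      obtain ⟨a, m, hm, he⟩ := Nat.exists_eq_two_pow_mul_odd (orderOf_pos x).ne'
      refine ⟨a, Subtype.ext ?_⟩
      refine Core.eq_one_of_mem_abelian hO hDn hab (D.pow_mem x.2 _) ?_
      refine hm.of_dvd_nat (orderOf_dvd_of_pow_eq_one ?_)
      rw [SubmonoidClass.coe_pow, ← pow_mul, ← he, ← Subgroup.orderOf_coe, pow_orderOf_eq_one]
    rw [eq_bot_iff, ← h.disj]
    intro x hx
    obtain ⟨g, hg⟩ := exists_conj_le P hD2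
    have hxP : x ∈ (P : Subgroup G) := by
      have := hg _ (hDn.conj_mem x hx g⁻¹)
      simpa [mul_assoc] using this
    exact ⟨e₁ ▸ (⟨hxP, hx.1⟩ : x ∈ (P : Subgroup G) ⊓ N₁),
      e₂ ▸ (⟨hxP, hx.2⟩ : x ∈ (P : Subgroup G) ⊓ N₂)⟩
  have htop : N₁ ⊔ N₂ = ⊤ := by
    refine hO' _ inferInstance (Nat.not_even_iff_odd.1 fun hev => P.not_dvd_index ?_)
    exact (even_iff_two_dvd.1 hev).trans (index_dvd_of_le (hP ▸
      sup_le_sup subset_normalClosure subset_normalClosure))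
  have hrel : ∀ {S N : Subgroup G}, N.Normal → (P : Subgroup G) ⊓ N = S → Odd (S.relIndex N) := by
    intro S N hN e
    haveI := hN
    obtain ⟨Q, hQ⟩ := exists_sylow_of_normal P N
    refine Nat.not_even_iff_odd.1 fun hev => Q.not_dvd_index ?_
    rw [hQ, ← Subgroup.inf_subgroupOf_right, e]
    exact even_iff_two_dvd.1 hev
  exact ⟨⟨le_top, le_top, hcc, hdisj, htop⟩, hrel h1n e₁, hrel h2n e₂⟩

end Cfsg.Agent.Lib.ProductFusion
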